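import Groth.Agent.FEtSplitLib.Lift
import Groth.Agent.SteinLib.Factor
import Groth.Agent.BlanchardLib.Desc

/-! # Stein factorisations near a point where they are étale -/

set_option autoImplicit false
set_option linter.style.haveILetI false
set_option backward.isDefEq.respectTransparency false
set_option backward.isDefEq.respectTransparency.types false

universe u

open CategoryTheory CategoryTheory.Limits AlgebraicGeometry WeightLib

noncomputable section

namespace FEtSplit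

theorem eq_of_specializes {T S : Scheme.{u}} (ν : T ⟶ S) [LocallyQuasiFinite ν] {a b : T} (h : a ⤳ b)
    (hν : ν a = ν b) : a = b := by
  haveI : DiscreteTopology ↥(ν ⁻¹' {ν b}) := (Scheme.Hom.isDiscrete_preimage_singleton ν (ν b)).to_subtype
  have : (⟨a, hν⟩ : ↥(ν ⁻¹' {ν b})) ⤳ ⟨b, rfl⟩ := subtype_specializes_iff _ _ |>.mpr h
  exact congrArg Subtype.val this.eq

/-- A morphism quasi-finite over a scheme whose source has connected fibres collapses them. -/
theorem mem_collapse {W T S₁ S : Scheme.{u}} (p : W ⟶ S₁) [GeometricallyConnected p] (h : W ⟶ T) (ν : T ⟶ S)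
    [LocallyQuasiFinite ν] (e : S₁ ⟶ S) (hh : h ≫ ν = p ≫ e) (y : S₁) : y ∈ H0Lib.collapse p h := by
  obtain ⟨x₀, hx₀⟩ := p.surjective y
  refine ⟨h x₀, fun x hx => ?_⟩
  haveI := (Scheme.Hom.isDiscrete_preimage_singleton ν (e y)).to_subtype
  haveI : PreconnectedSpace ↥(p ⁻¹' {y}) := Subtype.preconnectedSpace (p.isConnected_preimage_singleton y).isPreconnected
  let φ : ↥(p ⁻¹' {y}) → ↥(ν ⁻¹' {e y}) := fun z => ⟨h z.1, by
    show ν (h z.1) = e y
    rw [← Scheme.Hom.comp_apply, hh, Scheme.Hom.comp_apply, show p z.1 = y from z.2]⟩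
  have hφ : Continuous φ := Continuous.subtype_mk (h.continuous.comp continuous_subtype_val) _
  exact congrArg Subtype.val (PreconnectedSpace.constant inferInstance hφ (x := ⟨x, hx⟩) (y := ⟨x₀, hx₀⟩))

theorem geoConn_of_geometricallyConnected {X S : Scheme.{u}} (f : X ⟶ S) [h : GeometricallyConnected f] : GeoConn f :=
  fun _ _ _ ξ => h.geometrically_connectedSpace ξ _ _ (IsPullback.of_hasPullback f ξ)

variable {X X' S : Scheme.{u}} (f : X ⟶ S) (g : X' ⟶ X) {T : Scheme.{u}} (h : X' ⟶ T) (ν : T ⟶ S)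

/-- The source of the Stein factorisation of a composite with a fibre space is, near a split
component of a fibre, the base change of an étale open part of the Stein factor. -/
theorem exists_nhd_isPullback [IsLocallyNoetherian X] [IsProper f]
    (hO : ∀ U : S.Opens, Function.Bijective (f.app U).hom) [IsProper g] [IsProper h] [IsFinite ν]
    (hν : h ≫ ν = g ≫ f) (hb : ∀ U : T.Opens, Function.Bijective (h.app U).hom) (s : S) (t : T) (ht : ν t = s)
    (C : (pullback (g ≫ f) (S.fromSpecResidueField s)).Opens)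
    (hC : ∀ x, x ∈ C ↔ h (pullback.fst (g ≫ f) (S.fromSpecResidueField s) x) = t)
    (het : ∀ c : C, pullback.fst (g ≫ f) (S.fromSpecResidueField s) c.1 ∈ Pi1X.etaleLocus g)
    (hsplit : ∃ (ι : Type u) (_ : Finite ι), Splits ι
      (pullback.snd (C.ι ≫ mW g f (S.fromSpecResidueField s)) (pullback.fst (pullback.snd f (S.fromSpecResidueField s))
        (Spec.map (CommRingCat.ofHom (algebraMap (S.residueField s) (AlgebraicClosure (S.residueField s)))))))) :
    ∃ U' : T.Opens, t ∈ U' ∧ Etale (U'.ι ≫ ν) ∧ IsPullback ((h ⁻¹ᵁ U').ι ≫ g) (h ∣_ U') f (U'.ι ≫ ν) := by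
  let fs := S.fromSpecResidueField s
  let X's := pullback.fst (g ≫ f) fs
  have hfib : ∀ x, ν (h (X's x)) = s := fun x => by
    rw [← Scheme.Hom.comp_apply, hν, ← Scheme.Hom.comp_apply, pullback.condition, Scheme.Hom.comp_apply]
    exact S.fromSpecResidueField_apply s _
  have hCcl : IsClosed (C : Set ↥(pullback (g ≫ f) fs)) := by
    have : (C : Set ↥(pullback (g ≫ f) fs)) = (X's ≫ h) ⁻¹' closure {t} := by
      ext x
      refine ⟨fun hx => subset_closure ((Scheme.Hom.comp_apply _ _ _).trans ((hC x).mp hx)), fun hx => (hC x).mpr ?_⟩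
      exact (eq_of_specializes ν (specializes_iff_mem_closure.mpr hx) (ht.trans (hfib x).symm)).symm
    rw [this]
    exact isClosed_closure.preimage (X's ≫ h).continuous
  haveI : GeometricallyConnected f := SteinLib.geometricallyConnected_of_isIso_app f
    fun U _ => (ConcreteCategory.isIso_iff_bijective _).2 (hO U)
  haveI : Surjective f := BlanchardLib.surjective_of_bijective f hO
  haveI : LocallyOfFinitePresentation g := by
    rw [LocallyOfFinitePresentation.iff_locallyOfFiniteType]; infer_instance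
  obtain ⟨W, hCW, S₁, e, he, φ, hφ⟩ :=
    exists_trivialisation f g s (geoConn_of_geometricallyConnected f) C hCcl het hsplit
  haveI := he
  let U' : T.Opens := ⟨(h '' (W : Set X')ᶜ)ᶜ, (h.isClosedMap _ W.2.isClosed_compl).isOpen_compl⟩
  have ht' : t ∈ U' := by
    rintro ⟨x, hxW, hxt⟩
    have hxs : (g ≫ f) x = s := by rw [← hν, Scheme.Hom.comp_apply, hxt, ht]
    obtain ⟨x', hx', -⟩ := Scheme.Pullback.exists_preimage_pullback (f := g ≫ f) (g := fs) x
      (IsLocalRing.closedPoint (S.residueField s)) (hxs.trans (S.fromSpecResidueField_apply s _).symm)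
    exact hxW (hx' ▸ hCW ⟨x', (hC x').mpr (by rw [hx']; exact hxt)⟩)
  have hUW : h ⁻¹ᵁ U' ≤ W := fun x hx => by
    by_contra hne
    exact hx ⟨x, hne, rfl⟩
  let p : (W : Scheme.{u}) ⟶ S₁ := φ.hom ≫ pullback.snd f e
  have sqW : IsPullback (W.ι ≫ g) p f e :=
    IsPullback.of_iso_pullback ⟨by simp [p, ← hφ, pullback.condition]⟩ φ hφ rfl
  haveI : GeometricallyConnected p := MorphismProperty.of_isPullback sqW ‹GeometricallyConnected f›
  haveI : IsProper p := MorphismProperty.of_isPullback sqW ‹IsProper f›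
  have hbp : ∀ V : S₁.Opens, Function.Bijective (p.app V).hom := fun V =>
    BlanchardLib.bijective_app_baseChange sqW (fun V => (ConcreteCategory.isIso_iff_bijective _).2 (hO V)) V
  obtain ⟨k, hk, -⟩ := BlanchardLib.existsUnique_desc p (W.ι ≫ h) hbp
    (fun y => mem_collapse p (W.ι ≫ h) ν e (by rw [Category.assoc, hν, ← Category.assoc, sqW.w]) y)
  haveI : Surjective p := BlanchardLib.surjective_of_bijective p hbp
  have hke : k ≫ ν = e := H0Lib.hom_ext_of_bijective p hbp _ _ (by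
    rw [← Category.assoc, hk, Category.assoc, hν, ← Category.assoc, sqW.w])
  let h' : ((h ⁻¹ᵁ U') : Scheme.{u}) ⟶ U' := h ∣_ U'
  have hbh : ∀ V, Function.Bijective (h'.app V).hom := fun V => H0Lib.bijective_restrict h hb U' V
  haveI : GeometricallyConnected h := SteinLib.geometricallyConnected_of_isIso_app h
    fun U _ => (ConcreteCategory.isIso_iff_bijective _).2 (hb U)
  haveI : GeometricallyConnected h' := inferInstance
  haveI : LocallyQuasiFinite e := DescLib.lqf_of_unramified e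
  obtain ⟨k', hk', -⟩ := BlanchardLib.existsUnique_desc h' (X'.homOfLE hUW ≫ p) hbh
    (fun y => mem_collapse h' (X'.homOfLE hUW ≫ p) e (U'.ι ≫ ν) (by
      rw [Category.assoc, ← sqW.w, ← Category.assoc, ← Category.assoc, X'.homOfLE_ι]
      simp only [h', morphismRestrict_ι_assoc, Category.assoc, hν]) y)
  haveI : Surjective h' := BlanchardLib.surjective_of_bijective h' hbh
  have hk'k : k' ≫ k = U'.ι := H0Lib.hom_ext_of_bijective h' hbh _ _ (by
    rw [← Category.assoc, hk', Category.assoc, hk, X'.homOfLE_ι_assoc]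
    exact (morphismRestrict_ι h U').symm)
  let U₁ : S₁.Opens := k ⁻¹ᵁ U'
  let l : (U' : Scheme.{u}) ⟶ U₁ := IsOpenImmersion.lift U₁.ι k' (by
    rw [Scheme.Opens.range_ι]
    rintro _ ⟨z, rfl⟩
    show k (k' z) ∈ U'
    rw [← Scheme.Hom.comp_apply, hk'k]
    exact z.2)
  have hl : l ≫ U₁.ι = k' := IsOpenImmersion.lift_fac _ _ _
  have hlk : l ≫ (k ∣_ U') = 𝟙 _ := by
    rw [← cancel_mono U'.ι, Category.assoc, morphismRestrict_ι, ← Category.assoc, hl, hk'k, Category.id_comp]
  have hpre : ∀ x, x ∈ p ⁻¹ᵁ U₁ ↔ x ∈ W.ι ⁻¹ᵁ (h ⁻¹ᵁ U') := fun x => by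
    show k (p x) ∈ U' ↔ h (W.ι x) ∈ U'
    rw [← Scheme.Hom.comp_apply, hk, Scheme.Hom.comp_apply]
  let j : ((p ⁻¹ᵁ U₁ : (W : Scheme.{u}).Opens) : Scheme.{u}) ⟶ (h ⁻¹ᵁ U' : X'.Opens) :=
    IsOpenImmersion.lift (h ⁻¹ᵁ U').ι ((p ⁻¹ᵁ U₁).ι ≫ W.ι) (by
      rw [Scheme.Opens.range_ι]
      rintro _ ⟨z, rfl⟩
      exact (hpre _).mp z.2)
  have hj : j ≫ (h ⁻¹ᵁ U').ι = (p ⁻¹ᵁ U₁).ι ≫ W.ι := IsOpenImmersion.lift_fac _ _ _
  haveI : IsOpenImmersion j := by
    haveI : IsOpenImmersion (j ≫ (h ⁻¹ᵁ U').ι) := by rw [hj]; infer_instance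
    exact IsOpenImmersion.of_comp j (h ⁻¹ᵁ U').ι
  haveI : Surjective j := ⟨fun z => by
    refine ⟨⟨⟨z.1, hUW z.2⟩, (hpre _).mpr z.2⟩, (h ⁻¹ᵁ U').ι.isOpenEmbedding.injective ?_⟩
    rw [← Scheme.Hom.comp_apply, hj]
    rfl⟩
  haveI : IsIso j := (isIso_iff_isOpenImmersion_and_surjective _).2 ⟨inferInstance, inferInstance⟩
  have hjp : (p ∣_ U₁) ≫ (k ∣_ U') = j ≫ h' := by
    rw [← cancel_mono U'.ι]
    simp only [h', Category.assoc, morphismRestrict_ι]
    rw [morphismRestrict_ι_assoc, hk, ← Category.assoc j, hj, Category.assoc]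
  have hjW : j ≫ X'.homOfLE hUW = (p ⁻¹ᵁ U₁).ι := by
    rw [← cancel_mono W.ι, Category.assoc, X'.homOfLE_ι, hj]
  haveI : Surjective (p ∣_ U₁) := inferInstance
  have hkl : (k ∣_ U') ≫ l = 𝟙 _ := by
    rw [← cancel_mono U₁.ι, Category.assoc, hl, Category.id_comp]
    refine H0Lib.hom_ext_of_bijective (p ∣_ U₁) (H0Lib.bijective_restrict p hbp U₁) _ _ ?_
    rw [← Category.assoc, hjp, Category.assoc, hk', ← Category.assoc, hjW, morphismRestrict_ι]
  let i : (U₁ : Scheme.{u}) ≅ U' := ⟨k ∣_ U', l, hkl, hlk⟩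
  have hUe : U'.ι ≫ ν = i.inv ≫ U₁.ι ≫ e := by
    rw [← hke, ← Category.assoc, show i.inv = l from rfl, ← Category.assoc, hl, hk'k]
  haveI : IsIso i.inv := Iso.isIso_inv i
  haveI : Etale i.inv := inferInstance
  refine ⟨U', ht', by rw [hUe]; infer_instance, ?_⟩
  have sq₁ : IsPullback ((p ⁻¹ᵁ U₁).ι ≫ W.ι ≫ g) (p ∣_ U₁) f (U₁.ι ≫ e) :=
    (isPullback_morphismRestrict p U₁).flip.paste_horiz sqW
  refine sq₁.of_iso (asIso j) (Iso.refl _) i (Iso.refl _) ?_ ?_ (by simp) ?_
  · simp only [asIso_hom, Iso.refl_hom, Category.comp_id]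
    rw [← Category.assoc j, hj, Category.assoc]
  · simp only [asIso_hom, i]
    exact hjp
  · simp only [Iso.refl_hom, Category.comp_id, i]
    rw [morphismRestrict_ι_assoc, hke]

variable {f g ν}

/-- The canonical morphism to the base change is an isomorphism over an open part exactly when the
square over it is cartesian. -/
theorem isIso_restrict_iff (hν : h ≫ ν = g ≫ f) (c : X' ⟶ pullback f ν) (hc1 : c ≫ pullback.fst f ν = g)
    (hc2 : c ≫ pullback.snd f ν = h) (U' : T.Opens) :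
    IsIso (c ∣_ (pullback.snd f ν ⁻¹ᵁ U')) ↔ IsPullback ((h ⁻¹ᵁ U').ι ≫ g) (h ∣_ U') f (U'.ι ≫ ν) := by
  let V := pullback.snd f ν ⁻¹ᵁ U'
  have sqV : IsPullback (V.ι ≫ pullback.fst f ν) (pullback.snd f ν ∣_ U') f (U'.ι ≫ ν) :=
    (isPullback_morphismRestrict (pullback.snd f ν) U').flip.paste_horiz (IsPullback.of_hasPullback f ν)
  have hW : h ⁻¹ᵁ U' = c ⁻¹ᵁ V := by rw [← Scheme.Hom.comp_preimage, hc2]
  let j : ((h ⁻¹ᵁ U') : Scheme.{u}) ⟶ V := (X'.isoOfEq hW).hom ≫ (c ∣_ V)
  have h₁ : j ≫ V.ι ≫ pullback.fst f ν = (h ⁻¹ᵁ U').ι ≫ g := by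
    simp only [j, Category.assoc, morphismRestrict_ι_assoc, hc1]
    rw [Scheme.isoOfEq_hom_ι_assoc]
  have h₂ : j ≫ (pullback.snd f ν ∣_ U') = h ∣_ U' := by
    rw [← cancel_mono U'.ι]
    simp only [j, V, Category.assoc, morphismRestrict_ι, morphismRestrict_ι_assoc, hc2]
    rw [Scheme.isoOfEq_hom_ι_assoc]
  constructor
  · intro hiso
    haveI : IsIso (c ∣_ V) := hiso
    haveI : IsIso j := inferInstance
    exact sqV.of_iso (asIso j).symm (Iso.refl _) (Iso.refl _) (Iso.refl _)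
      (by simp [← h₁]) (by simp [← h₂]) (by simp) (by simp)
  · intro sq
    have : j = (sq.isoIsPullback _ _ sqV).hom := by
      apply sqV.hom_ext
      · rw [h₁, IsPullback.isoIsPullback_hom_fst]
      · rw [h₂, IsPullback.isoIsPullback_hom_snd]
    haveI : IsIso j := by rw [this]; infer_instance
    have e : c ∣_ V = (X'.isoOfEq hW).inv ≫ j := by simp [j]
    show IsIso (c ∣_ V)
    rw [e]; infer_instance

/-- A finite étale scheme over an algebraically closed field is split. -/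
theorem splits_algClosed {K : Type u} [Field K] [IsAlgClosed K] {E : Scheme.{u}} (v : E ⟶ Spec (CommRingCat.of K))
    [IsFinite v] [Etale v] : ∃ (ι : Type u) (_ : Finite ι), Splits ι v := by
  haveI : LocallyQuasiFinite v := locallyQuasiFinite_of_etale v
  haveI : DiscreteTopology E := by
    have := Scheme.Hom.isDiscrete_preimage_singleton v (pt K)
    have e : v ⁻¹' {pt K} = Set.univ := Set.eq_univ_of_forall fun _ => Subsingleton.elim (α := Spec (CommRingCat.of K)) _ _
    rw [e] at this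
    exact isDiscrete_univ_iff.mp this
  haveI : CompactSpace E := QuasiCompact.compactSpace_of_compactSpace v
  haveI : Finite E := finite_of_compact_of_discrete
  have hs : ∀ x : E, ∃ σ : Spec (CommRingCat.of K) ⟶ E, σ ≫ v = 𝟙 _ ∧ σ (pt K) = x := fun x => by
    obtain ⟨⟨σ, hσ⟩, hx⟩ := exists_gpt v x (𝟙 _) (Subsingleton.elim (α := Spec (CommRingCat.of K)) _ _)
    exact ⟨σ, hσ, hx⟩
  choose σ hσ hσx using hs
  haveI : ∀ x, IsOpenImmersion (σ x) := fun x => FFDescLib.isOpenImmersion_of_section v (σ x) (hσ x)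
  let φ : (∐ fun _ : E => Spec (CommRingCat.of K)) ⟶ E := Sigma.desc σ
  haveI : IsOpenImmersion φ := by
    refine isOpenImmersion_sigmaDesc (g := fun _ : E => Spec (CommRingCat.of K)) σ fun a b hab => ?_
    show Disjoint (Set.range (σ a)) (Set.range (σ b))
    rw [Set.disjoint_iff_forall_ne]
    intro _ ha _ hb
    have h1 := range_le (σ a) (s := {a}) (hσx a) ha
    have h2 := range_le (σ b) (s := {b}) (hσx b) hb
    rw [Set.mem_singleton_iff] at h1 h2
    rw [h1, h2]; exact hab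
  haveI : Surjective φ := ⟨fun x => ⟨Sigma.ι (fun _ : E => Spec (CommRingCat.of K)) x (pt K), by
    rw [← Scheme.Hom.comp_apply, Sigma.ι_desc]; exact hσx x⟩⟩
  haveI : IsIso φ := (isIso_iff_isOpenImmersion_and_surjective _).2 ⟨inferInstance, inferInstance⟩
  refine ⟨E, inferInstance, (asIso φ).symm, ?_⟩
  rw [Iso.symm_hom, asIso_inv, IsIso.inv_comp_eq]
  exact Sigma.hom_ext _ _ fun x => by rw [Sigma.ι_desc, Sigma.ι_desc_assoc, hσ x]

/-- The converse: over an open part where the Stein factor is étale and the square cartesian, the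
part of the fibre over a point is a split finite étale cover of the fibre. -/
theorem fibre_split_of_isPullback [IsProper f] [IsProper g] (hν : h ≫ ν = g ≫ f) [LocallyQuasiFinite ν] (U' : T.Opens)
    [Etale (U'.ι ≫ ν)] (sq : IsPullback ((h ⁻¹ᵁ U').ι ≫ g) (h ∣_ U') f (U'.ι ≫ ν))
    (s : S) (t : T) (htU : t ∈ U') (ht : ν t = s)
    (C : (pullback (g ≫ f) (S.fromSpecResidueField s)).Opens)
    (hC : ∀ x, x ∈ C ↔ h (pullback.fst (g ≫ f) (S.fromSpecResidueField s) x) = t) :
    (∀ c : C, pullback.fst (g ≫ f) (S.fromSpecResidueField s) c.1 ∈ Pi1X.etaleLocus g) ∧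
      IsFinite (C.ι ≫ mW g f (S.fromSpecResidueField s)) ∧ Etale (C.ι ≫ mW g f (S.fromSpecResidueField s)) ∧
      ∃ (ι : Type u) (_ : Finite ι), Splits ι
      (pullback.snd (C.ι ≫ mW g f (S.fromSpecResidueField s)) (pullback.fst (pullback.snd f (S.fromSpecResidueField s))
        (Spec.map (CommRingCat.ofHom (algebraMap (S.residueField s) (AlgebraicClosure (S.residueField s))))))) := by
  let fs := S.fromSpecResidueField s
  let W := h ⁻¹ᵁ U'
  have hetW : Etale (W.ι ≫ g) := MorphismProperty.of_isPullback sq.flip ‹Etale (U'.ι ≫ ν)›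
  have hCW : ∀ c : C, pullback.fst (g ≫ f) fs c.1 ∈ W := fun c => by
    show h _ ∈ U'
    rw [(hC _).mp c.2]; exact htU
  refine ⟨fun c => le_sSup (show W ∈ {U : X'.Opens | Etale (U.ι ≫ g)} from hetW) (hCW c), ?_⟩
  let F := pullback (U'.ι ≫ ν) fs
  let vF : F ⟶ Spec (S.residueField s) := pullback.snd _ _
  haveI : Etale vF := MorphismProperty.pullback_snd _ _ ‹Etale (U'.ι ≫ ν)›
  haveI : LocallyQuasiFinite vF := DescLib.lqf_of_unramified vF
  haveI : DiscreteTopology F := by
    have := Scheme.Hom.isDiscrete_preimage_singleton vF (IsLocalRing.closedPoint (S.residueField s))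
    have e : vF ⁻¹' {IsLocalRing.closedPoint (S.residueField s)} = Set.univ :=
      Set.eq_univ_of_forall fun _ => Subsingleton.elim (α := PrimeSpectrum (S.residueField s)) _ _
    rw [e] at this
    exact isDiscrete_univ_iff.mp this
  let Ds : F.Opens := ⟨(pullback.fst (U'.ι ≫ ν) fs ≫ U'.ι) ⁻¹' {t}, isOpen_discrete _⟩
  haveI : Subsingleton (Ds : Scheme.{u}) := ⟨fun a b => Subtype.ext (by
    have hinj : Function.Injective (pullback.fst (U'.ι ≫ ν) fs) := by
      haveI : IsPreimmersion (pullback.fst (U'.ι ≫ ν) fs) := MorphismProperty.pullback_fst _ _ inferInstance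
      exact (pullback.fst (U'.ι ≫ ν) fs).isEmbedding.injective
    exact hinj (U'.ι.isOpenEmbedding.injective (a.2.trans b.2.symm)))⟩
  haveI : CompactSpace (Ds : Scheme.{u}) := inferInstance
  haveI : LocallyQuasiFinite (Ds.ι ≫ vF) := inferInstance
  haveI : IsFinite (Ds.ι ≫ vF) := IsFinite.of_locallyQuasiFinite _
  -- the part of the fibre is the base change of the finite étale scheme
  let m : pullback (g ≫ f) fs ⟶ pullback f fs := mW g f fs
  let Ws := pullback.fst (g ≫ f) fs ⁻¹ᵁ W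
  let q : (Ws : Scheme.{u}) ⟶ W := pullback.fst (g ≫ f) fs ∣_ W
  have sqq : IsPullback q (Ws.ι ≫ pullback.snd (g ≫ f) fs) (W.ι ≫ g ≫ f) fs :=
    (isPullback_morphismRestrict (pullback.fst (g ≫ f) fs) W).paste_vert (IsPullback.of_hasPullback (g ≫ f) fs)
  have hWf : (h ∣_ U') ≫ U'.ι ≫ ν = W.ι ≫ g ≫ f := by rw [morphismRestrict_ι_assoc, hν]
  let r : (Ws : Scheme.{u}) ⟶ F := pullback.lift (q ≫ (h ∣_ U')) (Ws.ι ≫ pullback.snd (g ≫ f) fs) (by
    rw [Category.assoc, hWf]; exact sqq.w)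
  have hr1 : r ≫ pullback.fst (U'.ι ≫ ν) fs = q ≫ (h ∣_ U') := pullback.lift_fst _ _ _
  have hr2 : r ≫ vF = Ws.ι ≫ pullback.snd (g ≫ f) fs := pullback.lift_snd _ _ _
  have sqr : IsPullback q r (h ∣_ U') (pullback.fst (U'.ι ≫ ν) fs) := by
    refine IsPullback.of_bot ?_ hr1.symm (IsPullback.of_hasPullback (U'.ι ≫ ν) fs)
    rw [hr2, hWf]
    exact sqq
  have sqs : IsPullback (Ws.ι ≫ m) r (pullback.snd f fs) vF := by
    refine IsPullback.of_right ?_ ?_ (IsPullback.of_hasPullback f fs)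
    · rw [← pullback.condition, show (Ws.ι ≫ m) ≫ pullback.fst f fs = q ≫ W.ι ≫ g from by
        simp only [m, q, Category.assoc, mW_fst, morphismRestrict_ι_assoc]; rfl]
      exact sqr.paste_horiz sq
    · simp only [m, Category.assoc, mW_snd]; exact hr2.symm
  let C₀ : (Ws : Scheme.{u}).Opens := r ⁻¹ᵁ Ds
  have hC₀ : ∀ x : Ws, x ∈ C₀ ↔ x.1 ∈ C := fun x => by
    rw [hC]
    show U'.ι (pullback.fst (U'.ι ≫ ν) fs (r x)) = t ↔ _
    rw [← Scheme.Hom.comp_apply r, hr1, Scheme.Hom.comp_apply, ← Scheme.Hom.comp_apply (h ∣_ U'), morphismRestrict_ι,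
      Scheme.Hom.comp_apply, ← Scheme.Hom.comp_apply q, morphismRestrict_ι, Scheme.Hom.comp_apply]
    rfl
  have hrange : Set.range C.ι = Set.range (C₀.ι ≫ Ws.ι) := by
    rw [Scheme.Opens.range_ι]
    ext x
    constructor
    · intro hx
      exact ⟨⟨⟨x, hCW ⟨x, hx⟩⟩, (hC₀ _).mpr hx⟩, rfl⟩
    · rintro ⟨z, rfl⟩
      exact (hC₀ _).mp z.2
  let j := IsOpenImmersion.isoOfRangeEq C.ι (C₀.ι ≫ Ws.ι) hrange
  have hj : j.hom ≫ C₀.ι ≫ Ws.ι = C.ι := IsOpenImmersion.isoOfRangeEq_hom_fac _ _ _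
  let rC : (C : Scheme.{u}) ⟶ Ds := j.hom ≫ (r ∣_ Ds)
  have sqC : IsPullback (C.ι ≫ m) rC (pullback.snd f fs) (Ds.ι ≫ vF) := by
    refine ((isPullback_morphismRestrict r Ds).paste_vert sqs.flip |>.flip).of_iso j.symm (Iso.refl _)
      (Iso.refl _) (Iso.refl _) ?_ ?_ (by simp) (by simp)
    · simp only [Iso.refl_hom, Category.comp_id, Iso.symm_hom, ← hj]
      simp only [Category.assoc, j.inv_hom_id_assoc]
      rfl
    · simp only [Iso.refl_hom, Category.comp_id, Iso.symm_hom, rC, j.inv_hom_id_assoc]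
  haveI hfin : IsFinite (C.ι ≫ m) := MorphismProperty.of_isPullback sqC.flip ‹IsFinite (Ds.ι ≫ vF)›
  haveI het : Etale (C.ι ≫ m) := MorphismProperty.of_isPullback sqC.flip (inferInstance : Etale (Ds.ι ≫ vF))
  refine ⟨hfin, het, ?_⟩
  let alg := Spec.map (CommRingCat.ofHom (algebraMap (S.residueField s) (AlgebraicClosure (S.residueField s))))
  obtain ⟨ι, hι, hE⟩ := splits_algClosed (pullback.snd (Ds.ι ≫ vF) alg)
  refine ⟨ι, hι, ?_⟩
  let aZ := pullback.fst (pullback.snd f fs) alg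
  let q' : pullback (C.ι ≫ m) aZ ⟶ pullback (Ds.ι ≫ vF) alg :=
    pullback.lift (pullback.fst _ _ ≫ rC) (pullback.snd _ _ ≫ pullback.snd _ _) (by
      rw [Category.assoc, ← sqC.w, ← Category.assoc, pullback.condition, Category.assoc,
        pullback.condition (f := pullback.snd f fs) (g := alg), Category.assoc])
  refine hE.of_isPullback (q := q') (g := pullback.snd (pullback.snd f fs) alg) ?_
  refine IsPullback.of_right ?_ (pullback.lift_snd _ _ _) (IsPullback.of_hasPullback (Ds.ι ≫ vF) alg)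
  rw [pullback.lift_fst, ← pullback.condition (f := pullback.snd f fs) (g := alg)]
  exact (IsPullback.of_hasPullback (C.ι ≫ m) aZ).paste_horiz sqC.flip

end FEtSplit

end
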