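import Groth.Agent.DescLib.Family
import Groth.Agent.EtShLib.SplitFinite
import Groth.Agent.EtDescentLib.Geo
import Groth.Prelude.Def_Pi1

/-! # Split covers and sheets of covers of connected fibres -/

set_option autoImplicit false
set_option linter.style.haveILetI false
set_option backward.isDefEq.respectTransparency false
set_option backward.isDefEq.respectTransparency.types false

universe u

open CategoryTheory CategoryTheory.Limits AlgebraicGeometry

noncomputable section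

namespace FEtSplit

/-- The point of the spectrum of a field. -/
abbrev pt (K : Type u) [Field K] : Spec (CommRingCat.of K) := IsLocalRing.closedPoint K

theorem range_le {K : Type u} [Field K] {Z : Scheme.{u}} (a : Spec (CommRingCat.of K) ⟶ Z) {s : Set Z}
    (h : a (pt K) ∈ s) : Set.range a ⊆ s := by
  rintro _ ⟨y, rfl⟩
  rwa [Subsingleton.elim y (pt K)]

/-- The morphism `v` is the projection from copies of its target indexed by `ι`. -/
def Splits (ι : Type u) {V Z : Scheme.{u}} (v : V ⟶ Z) : Prop :=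
  ∃ e : V ≅ ∐ fun _ : ι => Z, e.hom ≫ Sigma.desc (fun _ : ι => 𝟙 Z) = v

variable {ι : Type u} {V Z : Scheme.{u}}

theorem Splits.of_isPullback {V' Z' : Scheme.{u}} {v : V ⟶ Z} {v' : V' ⟶ Z'} {q : V' ⟶ V} {g : Z' ⟶ Z}
    (h : IsPullback q v' v g) (hv : Splits ι v) : Splits ι v' := by
  obtain ⟨e, he⟩ := hv
  have hd : IsPullback (Limits.Sigma.map fun _ : ι => g) (Sigma.desc fun _ : ι => 𝟙 Z')
      (Sigma.desc fun _ : ι => 𝟙 Z) g :=
    (DescLib.isPullback_sigma (π := g) (fun _ : ι => 𝟙 Z) (fun _ => 𝟙 Z') (fun _ => g)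
      (fun _ => IsPullback.of_horiz_isIso ⟨by simp⟩)).flip
  have h' : IsPullback (q ≫ e.hom) v' (Sigma.desc fun _ : ι => 𝟙 Z) g :=
    h.of_iso (Iso.refl _) e (Iso.refl _) (Iso.refl _) (by simp) (by simp) (by simp [he]) (by simp)
  exact ⟨h'.isoIsPullback _ _ hd, IsPullback.isoIsPullback_hom_snd _ _ _ _⟩

theorem exists_splits_of_isSplit {Y : FEt.Cat Z} (h : Pi1.IsSplit Y) :
    ∃ (ι : Type u) (_ : Finite ι), Splits ι Y.hom := by
  obtain ⟨κ, hκ, e, he⟩ := h
  refine ⟨κ, hκ, e, ?_⟩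
  rw [← Iso.eq_inv_comp]
  exact Sigma.hom_ext _ _ fun i => (Sigma.ι_desc _ _).trans (he i).symm

theorem etale_fold (ι : Type u) (Z : Scheme.{u}) : Etale (Sigma.desc fun _ : ι => 𝟙 Z) :=
  IsZariskiLocalAtSource.sigmaDesc (P := @Etale) fun _ => inferInstance

/-- The index of a point of a disjoint union. -/
def sIdx {X : ι → Scheme.{u}} (z : (∐ X : Scheme.{u})) : ι := ((sigmaMk X).symm z).1

theorem sIdx_ι {X : ι → Scheme.{u}} (i : ι) (z : X i) : sIdx (Sigma.ι X i z) = i := by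
  show ((sigmaMk X).symm (Sigma.ι X i z)).1 = i
  rw [← sigmaMk_mk, Homeomorph.symm_apply_apply]

theorem mem_range_sIdx {X : ι → Scheme.{u}} (z : (∐ X : Scheme.{u})) :
    z ∈ Set.range (Sigma.ι X (sIdx z)) := by
  refine ⟨((sigmaMk X).symm z).2, ?_⟩
  rw [← sigmaMk_mk]
  exact (sigmaMk X).apply_symm_apply z

theorem isLocallyConstant_sIdx (X : ι → Scheme.{u}) : IsLocallyConstant (sIdx (X := X)) := by
  intro s
  have h : IsLocallyConstant (fun p : Σ i, X i => p.1) := fun t => by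
    rw [isOpen_sigma_iff]
    intro i
    by_cases hi : i ∈ t
    · convert isOpen_univ; ext; simp [hi]
    · convert isOpen_empty; ext; simp [hi]
  exact (h.comp_continuous (sigmaMk X).symm.continuous) s

theorem sIdx_map {X Y : ι → Scheme.{u}} (g : ∀ i, X i ⟶ Y i) (z : (∐ X : Scheme.{u})) :
    sIdx (Limits.Sigma.map g z) = sIdx z := by
  obtain ⟨i, w, rfl⟩ := DescLib.exists_sigma_mem z
  rw [← Scheme.Hom.comp_apply, Sigma.ι_map, Scheme.Hom.comp_apply, sIdx_ι, sIdx_ι]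

theorem exists_comp_ι {K : Type u} [Field K] {X : ι → Scheme.{u}}
    (a : Spec (CommRingCat.of K) ⟶ ∐ X) {i : ι} (h : sIdx (a (pt K)) = i) : ∃ a', a' ≫ Sigma.ι X i = a := by
  subst h
  exact ⟨IsOpenImmersion.lift _ a (range_le a (mem_range_sIdx _)), IsOpenImmersion.lift_fac _ _ _⟩

theorem eq_of_sIdx {K : Type u} [Field K] (a b : Spec (CommRingCat.of K) ⟶ ∐ fun _ : ι => Z)
    (hi : sIdx (a (pt K)) = sIdx (b (pt K)))
    (h : a ≫ Sigma.desc (fun _ : ι => 𝟙 Z) = b ≫ Sigma.desc (fun _ : ι => 𝟙 Z)) : a = b := by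
  obtain ⟨a', ha⟩ := exists_comp_ι a rfl
  obtain ⟨b', hb⟩ := exists_comp_ι b hi.symm
  rw [← ha, ← hb, Category.assoc, Category.assoc, Sigma.ι_desc, Category.comp_id, Category.comp_id] at h
  rw [← ha, ← hb, h]

/-! ### Sheets -/

variable {V X S : Scheme.{u}} (w : V ⟶ X) (f : X ⟶ S)

/-- The map between the base changes. -/
def mW {U : Scheme.{u}} (u : U ⟶ S) : pullback (w ≫ f) u ⟶ pullback f u :=
  pullback.lift (pullback.fst _ _ ≫ w) (pullback.snd _ _) (by rw [Category.assoc]; exact pullback.condition)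

@[reassoc (attr := simp)]
theorem mW_fst {U : Scheme.{u}} (u : U ⟶ S) : mW w f u ≫ pullback.fst f u = pullback.fst _ _ ≫ w :=
  pullback.lift_fst _ _ _

@[reassoc (attr := simp)]
theorem mW_snd {U : Scheme.{u}} (u : U ⟶ S) : mW w f u ≫ pullback.snd f u = pullback.snd _ _ :=
  pullback.lift_snd _ _ _

theorem isPullback_mW {U : Scheme.{u}} (u : U ⟶ S) :
    IsPullback (pullback.fst (w ≫ f) u) (mW w f u) w (pullback.fst f u) := by
  refine IsPullback.of_bot ?_ (mW_fst w f u).symm (IsPullback.of_hasPullback f u)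
  rw [mW_snd]
  exact IsPullback.of_hasPullback (w ≫ f) u

/-- The covers of the geometric fibres are split. -/
def GeoSplit : Prop :=
  ∀ (K : Type u) [Field K] [IsAlgClosed K] (ξ : Spec (CommRingCat.of K) ⟶ S),
    ∃ (ι : Type u) (_ : Finite ι), Splits ι (mW w f ξ)

/-- The geometric fibres are connected. -/
def GeoConn : Prop :=
  ∀ (K : Type u) [Field K] [IsAlgClosed K] (ξ : Spec (CommRingCat.of K) ⟶ S), ConnectedSpace ↑(pullback f ξ)

variable {K : Type u} [Field K] [IsAlgClosed K]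

/-- The point of the fibre defined by a point over a point of the base. -/
abbrev toFib (ξ : Spec (CommRingCat.of K) ⟶ S) (a : Spec (CommRingCat.of K) ⟶ V) (ha : a ≫ w ≫ f = ξ) :
    Spec (CommRingCat.of K) ⟶ pullback (w ≫ f) ξ :=
  pullback.lift a (𝟙 _) (by rw [ha, Category.id_comp])

/-- The sheet of a point of the cover in its fibre. -/
def sheet (ξ : Spec (CommRingCat.of K) ⟶ S) (a : Spec (CommRingCat.of K) ⟶ V) (ha : a ≫ w ≫ f = ξ) :
    _root_.ConnectedComponents ↥(pullback (w ≫ f) ξ) :=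
  _root_.ConnectedComponents.mk (toFib w f ξ a ha (pt K))

/-- Two geometric points lie in the same sheet. -/
def SameSheet (a b : Spec (CommRingCat.of K) ⟶ V) : Prop :=
  ∃ h : b ≫ w ≫ f = a ≫ w ≫ f, sheet w f _ a rfl = sheet w f _ b h

theorem sameSheet_iff {a b : Spec (CommRingCat.of K) ⟶ V} (ξ : Spec (CommRingCat.of K) ⟶ S)
    (ha : a ≫ w ≫ f = ξ) (hb : b ≫ w ≫ f = ξ) :
    SameSheet w f a b ↔ sheet w f ξ a ha = sheet w f ξ b hb := by
  subst ha
  exact ⟨fun h => h.2, fun h => ⟨hb, h⟩⟩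

theorem sameSheet_refl (a : Spec (CommRingCat.of K) ⟶ V) : SameSheet w f a a := ⟨rfl, rfl⟩

variable {w f}

theorem SameSheet.trans {a b c : Spec (CommRingCat.of K) ⟶ V} (h : SameSheet w f a b)
    (h' : SameSheet w f b c) : SameSheet w f a c := by
  have hc : c ≫ w ≫ f = a ≫ w ≫ f := h'.1.trans h.1
  exact ⟨hc, h.2.trans ((sameSheet_iff w f _ h.1 hc).mp h')⟩

theorem SameSheet.symm {a b : Spec (CommRingCat.of K) ⟶ V} (h : SameSheet w f a b) : SameSheet w f b a :=
  (sameSheet_iff w f (a ≫ w ≫ f) h.1 rfl).mpr ((sameSheet_iff w f (a ≫ w ≫ f) rfl h.1).mp h).symm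

theorem GeoSplit.eq_of_sameSheet (hS : GeoSplit w f) {a b : Spec (CommRingCat.of K) ⟶ V}
    (h : SameSheet w f a b) (hw : a ≫ w = b ≫ w) : a = b := by
  obtain ⟨hb, hh⟩ := h
  obtain ⟨ι, _, e, he⟩ := hS K (a ≫ w ≫ f)
  let a₁ := toFib w f (a ≫ w ≫ f) a rfl
  let b₁ := toFib w f (a ≫ w ≫ f) b hb
  have hab : a₁ ≫ e.hom = b₁ ≫ e.hom := by
    refine eq_of_sIdx _ _ ?_ ?_
    · rw [Scheme.Hom.comp_apply, Scheme.Hom.comp_apply]
      have hc : IsLocallyConstant (sIdx ∘ e.hom : ↥(pullback (w ≫ f) (a ≫ w ≫ f)) → ι) :=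
        (isLocallyConstant_sIdx _).comp_continuous e.hom.continuous
      exact hc.apply_eq_of_isPreconnected isPreconnected_connectedComponent mem_connectedComponent
        (_root_.ConnectedComponents.coe_eq_coe'.mp hh.symm)
    · rw [Category.assoc, Category.assoc, he]
      apply pullback.hom_ext <;> simp [a₁, b₁, hw]
  have h1 := congrArg (· ≫ pullback.fst (w ≫ f) (a ≫ w ≫ f)) ((cancel_mono e.hom).mp hab)
  simpa [a₁, b₁] using h1

theorem GeoSplit.exists_sameSheet (hS : GeoSplit w f) (hC : GeoConn f) (a : Spec (CommRingCat.of K) ⟶ V)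
    (x : Spec (CommRingCat.of K) ⟶ X) (hx : x ≫ f = a ≫ w ≫ f) :
    ∃ b, b ≫ w = x ∧ SameSheet w f a b := by
  obtain ⟨ι, _, e, he⟩ := hS K (a ≫ w ≫ f)
  haveI := hC K (a ≫ w ≫ f)
  let a₁ := toFib w f (a ≫ w ≫ f) a rfl
  let i := sIdx ((a₁ ≫ e.hom) (pt K))
  let s : pullback f (a ≫ w ≫ f) ⟶ pullback (w ≫ f) (a ≫ w ≫ f) := Sigma.ι (fun _ : ι => _) i ≫ e.inv
  have hs : s ≫ mW w f (a ≫ w ≫ f) = 𝟙 _ := by
    rw [← he, Category.assoc, e.inv_hom_id_assoc, Sigma.ι_desc]
  let x₁ : Spec (CommRingCat.of K) ⟶ pullback f (a ≫ w ≫ f) :=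
    pullback.lift x (𝟙 _) (by rw [hx, Category.id_comp])
  let b := x₁ ≫ s ≫ pullback.fst (w ≫ f) (a ≫ w ≫ f)
  have hbw : b ≫ w = x := by
    simp only [b, Category.assoc, ← mW_fst]
    rw [← Category.assoc s, hs, Category.id_comp, pullback.lift_fst]
  have hb : b ≫ w ≫ f = a ≫ w ≫ f := by rw [← Category.assoc, hbw, hx]
  refine ⟨b, hbw, hb, ?_⟩
  obtain ⟨a', ha'⟩ := exists_comp_ι (a₁ ≫ e.hom) (i := i) rfl
  have hb₁ : x₁ ≫ s = toFib w f (a ≫ w ≫ f) b hb := by
    apply pullback.hom_ext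
    · simp [b]
    · rw [pullback.lift_snd, Category.assoc, ← mW_snd w f, ← Category.assoc s, hs, Category.id_comp]
      exact pullback.lift_snd _ _ _
  have ha₁ : a' ≫ s = a₁ := by
    refine (cancel_mono e.hom).mp ?_
    rw [← ha']
    simp only [s, Category.assoc, e.inv_hom_id, Category.comp_id]
  show _root_.ConnectedComponents.mk (a₁ (pt K)) = _root_.ConnectedComponents.mk (toFib w f (a ≫ w ≫ f) b hb (pt K))
  rw [← hb₁, ← ha₁, Scheme.Hom.comp_apply, Scheme.Hom.comp_apply, _root_.ConnectedComponents.coe_eq_coe']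
  exact (isPreconnected_range s.continuous).subset_connectedComponent ⟨_, rfl⟩ ⟨_, rfl⟩

end FEtSplit

end
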