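import Groth.Agent.FEtSplitLib.Basic

/-! # The sheet relation is open and closed -/

set_option autoImplicit false
set_option linter.style.haveILetI false
set_option backward.isDefEq.respectTransparency false
set_option backward.isDefEq.respectTransparency.types false

universe u

open CategoryTheory CategoryTheory.Limits AlgebraicGeometry WeightLib

noncomputable section

namespace FEtSplit

variable {V X S : Scheme.{u}} (w : V ⟶ X) (f : X ⟶ S)

/-- An étale neighbourhood of `s` over which the cover is indexed. -/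
structure Chart (s : S) where
  U : Scheme.{u}
  u : U ⟶ S
  et : Etale u
  mem : s ∈ Set.range u
  ι : Type u
  idx : ↥(pullback (w ≫ f) u) → ι
  lc : IsLocallyConstant idx
  inj : ∀ (K : Type u) [Field K] [IsAlgClosed K] (a b : Spec (CommRingCat.of K) ⟶ pullback (w ≫ f) u),
    a ≫ mW w f u = b ≫ mW w f u → idx (a (pt K)) = idx (b (pt K)) → a = b

variable {w f}

theorem Chart.sameSheet_iff_idx (hS : GeoSplit w f) (hC : GeoConn f) {s : S} (c : Chart w f s)
    {K : Type u} [Field K] [IsAlgClosed K] (a b : Spec (CommRingCat.of K) ⟶ pullback (w ≫ f) c.u)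
    (h : a ≫ pullback.snd _ _ = b ≫ pullback.snd _ _) :
    SameSheet w f (a ≫ pullback.fst _ _) (b ≫ pullback.fst _ _) ↔ c.idx (a (pt K)) = c.idx (b (pt K)) := by
  let ν := a ≫ pullback.snd (w ≫ f) c.u
  let ξ := ν ≫ c.u
  let φ : pullback (w ≫ f) ξ ⟶ pullback (w ≫ f) c.u :=
    pullback.lift (pullback.fst _ _) (pullback.snd _ _ ≫ ν) (by rw [pullback.condition, Category.assoc])
  have fwd : ∀ a' b' : Spec (CommRingCat.of K) ⟶ pullback (w ≫ f) c.u, a' ≫ pullback.snd _ _ = ν →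
      b' ≫ pullback.snd _ _ = ν →
      SameSheet w f (a' ≫ pullback.fst _ _) (b' ≫ pullback.fst _ _) → c.idx (a' (pt K)) = c.idx (b' (pt K)) := by
    intro a' b' ha' hb' hs
    have e : ∀ d : Spec (CommRingCat.of K) ⟶ pullback (w ≫ f) c.u, d ≫ pullback.snd _ _ = ν →
        (d ≫ pullback.fst _ _) ≫ w ≫ f = ξ := fun d hd => by
      rw [Category.assoc, pullback.condition, reassoc_of% hd]
    have hs' := (sameSheet_iff w f ξ (e a' ha') (e b' hb')).mp hs
    have hφ : ∀ (d : Spec (CommRingCat.of K) ⟶ pullback (w ≫ f) c.u) (hd : d ≫ pullback.snd _ _ = ν),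
        toFib w f ξ (d ≫ pullback.fst _ _) (e d hd) ≫ φ = d := fun d hd => by
      apply pullback.hom_ext
      · simp [φ]
      · rw [Category.assoc, pullback.lift_snd, ← Category.assoc, pullback.lift_snd, Category.id_comp, hd]
    conv_lhs => rw [← hφ a' ha']
    conv_rhs => rw [← hφ b' hb']
    rw [Scheme.Hom.comp_apply, Scheme.Hom.comp_apply]
    exact (c.lc.comp_continuous φ.continuous).apply_eq_of_isPreconnected isPreconnected_connectedComponent
      mem_connectedComponent (_root_.ConnectedComponents.coe_eq_coe'.mp hs'.symm)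
  refine ⟨fwd a b rfl h.symm, fun hi => ?_⟩
  have hx : (b ≫ pullback.fst _ _ ≫ w) ≫ f = (a ≫ pullback.fst _ _) ≫ w ≫ f := by
    simp only [Category.assoc]
    rw [pullback.condition, reassoc_of% h]
  obtain ⟨b', hb'w, hb'⟩ := hS.exists_sameSheet hC (a ≫ pullback.fst _ _) (b ≫ pullback.fst _ _ ≫ w) hx
  let b'' : Spec (CommRingCat.of K) ⟶ pullback (w ≫ f) c.u := pullback.lift b' ν (by
    rw [hb'.1, Category.assoc, pullback.condition]; simp [ν])
  have hb''1 : b'' ≫ pullback.fst _ _ = b' := pullback.lift_fst _ _ _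
  have hb''2 : b'' ≫ pullback.snd _ _ = ν := pullback.lift_snd _ _ _
  have := fwd a b'' rfl hb''2 (by rw [hb''1]; exact hb')
  have hbb : b'' = b := c.inj K _ _ (by
    apply pullback.hom_ext
    · simp only [Category.assoc, mW_fst]
      rw [reassoc_of% hb''1, hb'w]
    · simp only [Category.assoc, mW_snd]
      rw [hb''2, ← h]) (this.symm.trans hi)
  rw [← hbb, hb''1]
  exact hb'

variable (w f)

/-- The pairs of points in the same sheet. -/
def rel : Set ↥(pullback (w ≫ f) (w ≫ f)) :=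
  {z | SameSheet w f (gpt z ≫ pullback.fst _ _) (gpt z ≫ pullback.snd _ _)}

variable {w f}

/-- The pairs over a chart. -/
abbrev Chart.pairs {s : S} (c : Chart w f s) : Scheme.{u} :=
  pullback (pullback.fst (w ≫ f) (w ≫ f) ≫ w ≫ f) c.u

theorem Chart.exists_iff (hS : GeoSplit w f) (hC : GeoConn f) {s : S} (c : Chart w f s) :
    ∃ T : Set ↥c.pairs, IsClopen T ∧
      ∀ (z' : c.pairs) (K : Type u) [Field K] [IsAlgClosed K]
        (g : Spec (CommRingCat.of K) ⟶ pullback (w ≫ f) (w ≫ f)),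
        g (pt K) = pullback.fst (pullback.fst (w ≫ f) (w ≫ f) ≫ w ≫ f) c.u z' →
        (SameSheet w f (g ≫ pullback.fst _ _) (g ≫ pullback.snd _ _) ↔ z' ∈ T) := by
  haveI := c.et
  let P := pullback.fst (w ≫ f) (w ≫ f) ≫ w ≫ f
  let q := pullback.fst P c.u
  haveI : Etale q := MorphismProperty.pullback_fst _ _ c.et
  haveI : LocallyQuasiFinite q := locallyQuasiFinite_of_etale q
  let h₁ : c.pairs ⟶ pullback (w ≫ f) c.u := pullback.lift (q ≫ pullback.fst _ _) (pullback.snd P c.u)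
    (by rw [Category.assoc]; exact pullback.condition)
  let h₂ : c.pairs ⟶ pullback (w ≫ f) c.u := pullback.lift (q ≫ pullback.snd _ _) (pullback.snd P c.u)
    (by rw [Category.assoc, ← pullback.condition (f := w ≫ f) (g := w ≫ f)]; exact pullback.condition)
  have hl : IsLocallyConstant fun z : c.pairs => (c.idx (h₁ z), c.idx (h₂ z)) :=
    (c.lc.comp_continuous h₁.continuous).prodMk (c.lc.comp_continuous h₂.continuous)
  refine ⟨{z | c.idx (h₁ z) = c.idx (h₂ z)}, ⟨⟨?_⟩, hl {p | p.1 = p.2}⟩, fun z' K _ _ g hg => ?_⟩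
  · exact hl {p | p.1 ≠ p.2}
  · obtain ⟨⟨g', hg'⟩, hgz⟩ := exists_gpt q z' g hg.symm
    subst hg'
    have hpt : g' (pt K) = z' := hgz
    have := c.sameSheet_iff_idx hS hC (g' ≫ h₁) (g' ≫ h₂) (by simp [h₁, h₂])
    rw [Scheme.Hom.comp_apply, Scheme.Hom.comp_apply, hpt] at this
    simpa [h₁, h₂] using this

theorem Chart.exists_preimage {s : S} (c : Chart w f s) (z : ↥(pullback (w ≫ f) (w ≫ f)))
    (hz : (pullback.fst (w ≫ f) (w ≫ f) ≫ w ≫ f) z = s) :
    ∃ z' : c.pairs, pullback.fst (pullback.fst (w ≫ f) (w ≫ f) ≫ w ≫ f) c.u z' = z := by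
  obtain ⟨y, hy⟩ := c.mem
  obtain ⟨z', h1, -⟩ := Scheme.Pullback.exists_preimage_pullback z y (hz.trans hy.symm)
  exact ⟨z', h1⟩

theorem mem_rel_iff (hS : GeoSplit w f) (hC : GeoConn f) (hch : ∀ s, Nonempty (Chart w f s))
    {K : Type u} [Field K] [IsAlgClosed K] (g : Spec (CommRingCat.of K) ⟶ pullback (w ≫ f) (w ≫ f)) :
    SameSheet w f (g ≫ pullback.fst _ _) (g ≫ pullback.snd _ _) ↔ g (pt K) ∈ rel w f := by
  obtain ⟨c⟩ := hch ((pullback.fst (w ≫ f) (w ≫ f) ≫ w ≫ f) (g (pt K)))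
  obtain ⟨z', hz'⟩ := c.exists_preimage (g (pt K)) rfl
  obtain ⟨T, -, hT⟩ := c.exists_iff hS hC
  exact (hT z' K g hz'.symm).trans (hT z' _ (gpt (g (pt K))) ((img_gpt _).trans hz'.symm)).symm

theorem isClopen_rel (hS : GeoSplit w f) (hC : GeoConn f) (hch : ∀ s, Nonempty (Chart w f s)) :
    IsClopen (rel w f) := by
  have main : ∀ z, ∃ O : Set ↥(pullback (w ≫ f) (w ≫ f)), IsOpen O ∧ z ∈ O ∧
      ∀ z₁ ∈ O, (z₁ ∈ rel w f ↔ z ∈ rel w f) := by
    intro z
    obtain ⟨c⟩ := hch ((pullback.fst (w ≫ f) (w ≫ f) ≫ w ≫ f) z)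
    haveI := c.et
    obtain ⟨z', hz'⟩ := c.exists_preimage z rfl
    obtain ⟨T, hT, hiff⟩ := c.exists_iff hS hC
    let q := pullback.fst (pullback.fst (w ≫ f) (w ≫ f) ≫ w ≫ f) c.u
    haveI : Etale q := MorphismProperty.pullback_fst _ _ c.et
    have hiff' : ∀ z'' : c.pairs, q z'' ∈ rel w f ↔ z'' ∈ T := fun z'' =>
      hiff z'' _ (gpt (q z'')) (img_gpt _)
    refine ⟨q '' {z'' | z'' ∈ T ↔ z' ∈ T}, q.isOpenMap _ ?_, ⟨z', Iff.rfl, hz'⟩, ?_⟩
    · by_cases h : z' ∈ T
      · simp only [h, iff_true]; exact hT.2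
      · simp only [h, iff_false]; exact hT.1.isOpen_compl
    · rintro _ ⟨z'', h'', rfl⟩
      have hq : q z' = z := hz'
      exact ((hiff' z'').trans ((show (z'' ∈ T ↔ z' ∈ T) from h'').trans (hiff' z').symm)).trans
        (Iff.of_eq (congrArg (· ∈ rel w f) hq))
  refine ⟨⟨?_⟩, ?_⟩ <;> refine isOpen_iff_forall_mem_open.mpr fun z hz => ?_
  all_goals
    obtain ⟨O, hO, hzO, h⟩ := main z
    refine ⟨O, fun z₁ hz₁ => ?_, hO, hzO⟩
  · exact fun h₁ => hz ((h z₁ hz₁).mp h₁)
  · exact (h z₁ hz₁).mpr hz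

end FEtSplit

end
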