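import Groth.Agent.FEtSplitLib.Chart
import Groth.Agent.FEtProperLib.SepClosed
import Groth.Agent.EtProperH0Lib.ShSystem
import Groth.Agent.EtProperH0Lib.StrictStalk
import Groth.Agent.RichLib.LimitBaseChange
import Groth.Agent.S0240

/-! # Charts for covers with split geometric fibres -/

set_option autoImplicit false
set_option linter.style.haveILetI false
set_option backward.isDefEq.respectTransparency false
set_option backward.isDefEq.respectTransparency.types false
set_option maxHeartbeats 1000000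

universe u

open CategoryTheory CategoryTheory.Limits AlgebraicGeometry WeightLib RichLib.LimBC AlgSpRegLib FEtProper

noncomputable section

namespace FEtSplit

variable {V X S : Scheme.{u}} {w : V ⟶ X} {f : X ⟶ S}

/-- The splitting on any scheme isomorphic to a geometric fibre. -/
theorem GeoSplit.splits_of_isPullback (hS : GeoSplit w f) {K : Type u} [Field K] [IsAlgClosed K]
    {ξ : Spec (CommRingCat.of K) ⟶ S} {P W' : Scheme.{u}} {a : P ⟶ X} {b : P ⟶ Spec (CommRingCat.of K)}
    (hP : IsPullback a b f ξ) {q : W' ⟶ V} {v' : W' ⟶ P} (hq : IsPullback q v' w a) :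
    ∃ (ι : Type u) (_ : Finite ι), Splits ι v' := by
  obtain ⟨ι, hι, h⟩ := hS K ξ
  refine ⟨ι, hι, ?_⟩
  let e := hP.isoPullback
  have he : e.hom ≫ pullback.fst f ξ = a := hP.isoPullback_hom_fst
  let l : W' ⟶ pullback (w ≫ f) ξ :=
    pullback.lift q (v' ≫ b) (by rw [reassoc_of% hq.w, Category.assoc, hP.w])
  have hl : l ≫ mW w f ξ = v' ≫ e.hom := by
    apply pullback.hom_ext
    · simp only [Category.assoc, mW_fst, he, l, pullback.lift_fst_assoc]; exact hq.w
    · simp only [Category.assoc, mW_snd, l, pullback.lift_snd, e, IsPullback.isoPullback_hom_snd]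
  refine h.of_isPullback (IsPullback.of_right ?_ hl (isPullback_mW w f ξ))
  rw [he, show l ≫ pullback.fst (w ≫ f) ξ = q from pullback.lift_fst _ _ _]
  exact hq

theorem Splits.bc {ι : Type u} {U U' : Scheme.{u}} {u : U ⟶ S} (h : Splits ι (mW w f u)) (k : U' ⟶ U)
    {u' : U' ⟶ S} (hk : k ≫ u = u') : Splits ι (mW w f u') := by
  let kX : pullback f u' ⟶ pullback f u :=
    pullback.lift (pullback.fst _ _) (pullback.snd _ _ ≫ k) (by rw [Category.assoc, hk, pullback.condition])
  let kV : pullback (w ≫ f) u' ⟶ pullback (w ≫ f) u :=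
    pullback.lift (pullback.fst _ _) (pullback.snd _ _ ≫ k) (by rw [Category.assoc, hk, pullback.condition])
  have hl : kV ≫ mW w f u = mW w f u' ≫ kX := by
    apply pullback.hom_ext <;> simp [kV, kX]
  refine h.of_isPullback (IsPullback.of_right ?_ hl (isPullback_mW w f u))
  rw [show kX ≫ pullback.fst f u = pullback.fst f u' from pullback.lift_fst _ _ _,
    show kV ≫ pullback.fst (w ≫ f) u = pullback.fst (w ≫ f) u' from pullback.lift_fst _ _ _]
  exact isPullback_mW w f u'

/-- Over a strictly henselian base a cover with split closed geometric fibre is split. -/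
theorem splits_strict {R : Type u} [CommRing R] [HenselianLocalRing R] [IsSepClosed (IsLocalRing.ResidueField R)]
    {X' V' : Scheme.{u}} (f' : X' ⟶ Spec (CommRingCat.of R)) [IsProper f'] (w' : V' ⟶ X') [IsFinite w'] [Etale w']
    (h : ∀ {P W' : Scheme.{u}} (a : P ⟶ X')
      (b : P ⟶ Spec (CommRingCat.of (AlgebraicClosure (IsLocalRing.ResidueField R)))),
      IsPullback a b f' (spR (IsLocalRing.ResidueField R) (AlgebraicClosure (IsLocalRing.ResidueField R)) ≫
        Spec.map (CommRingCat.ofHom (IsLocalRing.residue R))) →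
      ∀ (q : W' ⟶ V') (v : W' ⟶ P), IsPullback q v w' a → ∃ (ι : Type u) (_ : Finite ι), Splits ι v) :
    ∃ (ι : Type u) (_ : Finite ι), Splits ι w' := by
  let k := IsLocalRing.ResidueField R
  let K := AlgebraicClosure k
  let q₁ : Spec (CommRingCat.of k) ⟶ Spec (CommRingCat.of R) := Spec.map (CommRingCat.ofHom (IsLocalRing.residue R))
  let a₁ := pullback.fst f' q₁
  let f₁ := pullback.snd f' q₁
  let a₂ := pullback.fst f₁ (spR k K)
  have hP : IsPullback (a₂ ≫ a₁) (pullback.snd f₁ (spR k K)) f' (spR k K ≫ q₁) :=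
    (IsPullback.of_hasPullback f₁ (spR k K)).paste_horiz (IsPullback.of_hasPullback f' q₁)
  have hsq : ∀ {Y : Scheme.{u}} (y : Y ⟶ X'), IsPullback (pullback.fst (pullback.snd y a₁) a₂ ≫ pullback.fst y a₁)
      (pullback.snd (pullback.snd y a₁) a₂) y (a₂ ≫ a₁) := fun y =>
    (IsPullback.of_hasPullback _ _).paste_horiz (IsPullback.of_hasPullback _ _)
  obtain ⟨ι, hι, hA⟩ := h _ _ hP _ _ (hsq w')
  refine ⟨ι, hι, ?_⟩
  haveI := Groth.Agent.EtShLib.isFinite_fold (κ := ι) X'
  haveI := etale_fold ι X'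
  let fold := Sigma.desc (fun _ : ι => 𝟙 X')
  obtain ⟨eT, heT⟩ : Splits ι (pullback.snd (pullback.snd fold a₁) a₂) :=
    Splits.of_isPullback (hsq fold) ⟨Iso.refl _, Category.id_comp _⟩
  obtain ⟨eA, heA⟩ := hA
  let A : FEt.Cat X' := MorphismProperty.Over.mk ⊤ w' ⟨‹IsFinite w'›, ‹Etale w'›⟩
  let T : FEt.Cat X' := MorphismProperty.Over.mk ⊤ fold ⟨‹IsFinite fold›, ‹Etale fold›⟩
  haveI : (FEt.restrict a₁).IsEquivalence := Groth.Agent.S0240.result R f'
  haveI : (FEt.restrict a₂).IsEquivalence := isEquivalence_sepClosed k K f₁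
  let F := FEt.restrict a₁ ⋙ FEt.restrict a₂
  let i : F.obj A ≅ F.obj T := MorphismProperty.Over.isoMk (eA ≪≫ eT.symm) (by
    show (eA.hom ≫ eT.inv) ≫ pullback.snd (pullback.snd fold a₁) a₂ = pullback.snd (pullback.snd w' a₁) a₂
    rw [Category.assoc, ← heT, eT.inv_hom_id_assoc, heA])
  let φ := F.preimageIso i
  exact ⟨(MorphismProperty.Over.forget _ _ X' ⋙ Over.forget X').mapIso φ, MorphismProperty.Over.w φ.hom⟩

theorem nonempty_chart [IsProper f] [IsFinite w] [Etale w] (hS : GeoSplit w f) (s : S) :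
    Nonempty (Chart w f s) := by
  obtain ⟨_, ⟨O₁, hO₁, rfl⟩, hs, -⟩ := S.isBasis_affineOpens.exists_subset_of_mem_open (Set.mem_univ s) isOpen_univ
  let A := Γ(S, O₁)
  let g : Spec A ⟶ S := hO₁.fromSpec
  let pp : PrimeSpectrum A := hO₁.primeIdealOf ⟨s, hs⟩
  let p : Ideal A := pp.asIdeal
  let R := ShAt p
  let r : Spec (CommRingCat.of R) ⟶ S := Spec.map (CommRingCat.ofHom (shι p)) ≫ g
  have hrs : r (IsLocalRing.closedPoint R) = s := by
    show g (Spec.map (CommRingCat.ofHom (shι p)) (IsLocalRing.closedPoint R)) = s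
    rw [show Spec.map (CommRingCat.ofHom (shι p)) (IsLocalRing.closedPoint R) = pp from
      PrimeSpectrum.ext (EtProperH0Lib.comap_shι p)]
    exact hO₁.fromSpec_primeIdealOf ⟨s, hs⟩
  haveI : IsSepClosed (IsLocalRing.ResidueField (ShAt p)) :=
    (Hensel.IsStrictHenselization.isSepClosure (R := Localization.AtPrime p) (S := ShAt p)).sep_closed
  haveI hfinR : IsFinite (mW w f r) := MorphismProperty.of_isPullback (isPullback_mW w f r) ‹IsFinite w›
  haveI hetR : Etale (mW w f r) := MorphismProperty.of_isPullback (isPullback_mW w f r) ‹Etale w›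
  obtain ⟨ι, _, hspl⟩ := splits_strict (pullback.snd f r) (mW w f r) fun {P W'} a b hP q v hq =>
    hS.splits_of_isPullback (hP.paste_horiz (IsPullback.of_hasPullback f r))
      (hq.paste_horiz (isPullback_mW w f r))
  -- the system of étale neighbourhoods
  obtain ⟨I, _, _, D, c, hpt, ⟨hc⟩, hD⟩ := EtProperH0Lib.exists_sh_system p
  let eR : c.pt ≅ Over.mk (Spec.map (CommRingCat.ofHom (shι p))) := eqToIso hpt
  let r' : c.pt.left ⟶ S := c.pt.hom ≫ g
  let cR : c.pt.left := eR.inv.left (IsLocalRing.closedPoint R)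
  have hcR : r' cR = s := by
    have := congrArg (fun h => g (h (IsLocalRing.closedPoint R))) (Over.w eR.inv)
    exact this.trans hrs
  obtain ⟨e, he⟩ := hspl.bc eR.hom.left (u' := r') (by
    show eR.hom.left ≫ Spec.map (CommRingCat.ofHom (shι p)) ≫ g = c.pt.hom ≫ g
    rw [← Category.assoc]
    exact congrArg (· ≫ g) (Over.w eR.hom))
  let Sy : Sys I (Spec A) :=
    { D := D ⋙ Over.forget _
      t := fun i => (D.obj i).hom
      w := fun a => Over.w (D.map a)
      c := (Over.forget _).mapCone c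
      hc := hc
      affine := fun i => by
        haveI := (hD i).1
        exact isAffineHom_of_isAffine (D.obj i).hom
      s := c.pt.hom
      hs := fun i => Over.w (c.π.app i) }
  let gA := pullback.snd (w ≫ f) g
  let B := RichLib.LimBC.pb Sy gA
  haveI : QuasiCompact gA := inferInstance
  haveI : CompactSpace ↥(pullback (w ≫ f) g) := QuasiCompact.compactSpace_of_compactSpace gA
  haveI : QuasiSeparatedSpace ↥(pullback (w ≫ f) g) := quasiSeparatedSpace_of_quasiSeparated gA
  haveI : ∀ {i j} (a : i ⟶ j), IsAffineHom (B.D.map a) := fun a => B.affine_map a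
  haveI : ∀ i, CompactSpace (B.D.obj i) := fun i => B.compactSpace_obj i
  haveI : ∀ i, QuasiSeparatedSpace (B.D.obj i) := fun i => B.quasiSeparatedSpace_obj i
  let Tg : Scheme.{u} := ∐ fun _ : ι => Spec A
  let fold : Tg ⟶ Spec A := Sigma.desc fun _ : ι => 𝟙 (Spec A)
  haveI : Etale fold := etale_fold ι (Spec A)
  let eL : pullback gA c.pt.hom ≅ pullback (w ≫ f) r' := pullbackLeftPullbackSndIso (w ≫ f) g c.pt.hom
  have eL1 : eL.hom ≫ pullback.fst (w ≫ f) r' = pullback.fst gA c.pt.hom ≫ pullback.fst (w ≫ f) g :=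
    pullbackLeftPullbackSndIso_hom_fst _ _ _
  have eL2 : eL.hom ≫ pullback.snd (w ≫ f) r' = pullback.snd gA c.pt.hom :=
    pullbackLeftPullbackSndIso_hom_snd _ _ _
  let mm : (∐ fun _ : ι => pullback f r' : Scheme.{u}) ⟶ Tg :=
    Limits.Sigma.map fun _ : ι => pullback.snd f r' ≫ c.pt.hom
  have hmm : mm ≫ fold = Sigma.desc (fun _ : ι => 𝟙 (pullback f r')) ≫ pullback.snd f r' ≫ c.pt.hom :=
    Sigma.hom_ext _ _ fun i => by simp [mm, fold]
  let a : B.c.pt ⟶ Tg := eL.hom ≫ e.hom ≫ mm
  let tt : B.D ⟶ (Functor.const I).obj (Spec A) :=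
    { app := fun i => B.t i ≫ gA
      naturality := fun i j b => by
        show B.D.map b ≫ B.t j ≫ gA = (B.t i ≫ gA) ≫ 𝟙 _
        rw [Category.comp_id, ← Category.assoc, B.w b] }
  obtain ⟨i, G, hG, hG'⟩ := Scheme.exists_π_app_comp_eq_of_locallyOfFinitePresentation B.D tt fold B.c B.hc a (by
    ext j
    show B.c.π.app j ≫ B.t j ≫ gA = (eL.hom ≫ e.hom ≫ mm) ≫ fold
    rw [← Category.assoc, B.hs j, Category.assoc, Category.assoc, hmm, reassoc_of% he]
    show pullback.fst gA c.pt.hom ≫ gA = _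
    rw [pullback.condition, mW_snd_assoc, reassoc_of% eL2])
  -- the chart
  let U₀ : Scheme.{u} := (D.obj i).left
  let u₀ : U₀ ⟶ S := (D.obj i).hom ≫ g
  haveI : Etale (D.obj i).hom := (hD i).2
  haveI : Etale u₀ := inferInstance
  let ei : pullback gA (D.obj i).hom ≅ pullback (w ≫ f) u₀ := pullbackLeftPullbackSndIso (w ≫ f) g (D.obj i).hom
  have ei1 : ei.hom ≫ pullback.fst (w ≫ f) u₀ = pullback.fst gA (D.obj i).hom ≫ pullback.fst (w ≫ f) g :=
    pullbackLeftPullbackSndIso_hom_fst _ _ _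
  have ei2 : ei.hom ≫ pullback.snd (w ≫ f) u₀ = pullback.snd gA (D.obj i).hom :=
    pullbackLeftPullbackSndIso_hom_snd _ _ _
  let Gi : pullback gA (D.obj i).hom ⟶ Tg := G
  let G₀ : pullback (w ≫ f) u₀ ⟶ Tg := ei.inv ≫ Gi
  let idx₀ : ↥(pullback (w ≫ f) u₀) → ι := fun z => sIdx (G₀ z)
  have hlc : IsLocallyConstant idx₀ := (isLocallyConstant_sIdx _).comp_continuous G₀.continuous
  haveI : IsFinite (mW w f u₀) := MorphismProperty.of_isPullback (isPullback_mW w f u₀) ‹IsFinite w›
  haveI : Etale (mW w f u₀) := MorphismProperty.of_isPullback (isPullback_mW w f u₀) ‹Etale w›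
  let m₀ := mW w f u₀
  let W₂ := pullback m₀ m₀
  let q₂ : W₂ ⟶ U₀ := pullback.fst m₀ m₀ ≫ pullback.snd (w ≫ f) u₀
  haveI : IsProper (pullback.fst m₀ m₀) := inferInstance
  haveI : IsProper q₂ := inferInstance
  let E : Set W₂ := {z | idx₀ (pullback.fst m₀ m₀ z) = idx₀ (pullback.snd m₀ m₀ z)} \
    Set.range (pullback.diagonal m₀)
  have hE : IsClosed E := by
    refine IsClosed.sdiff ?_ (pullback.diagonal m₀).isOpenEmbedding.isOpen_range
    have hl : IsLocallyConstant fun z : W₂ => (idx₀ (pullback.fst m₀ m₀ z), idx₀ (pullback.snd m₀ m₀ z)) :=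
      (hlc.comp_continuous (pullback.fst m₀ m₀).continuous).prodMk
        (hlc.comp_continuous (pullback.snd m₀ m₀).continuous)
    exact ⟨hl {p | p.1 ≠ p.2}⟩
  let O : U₀.Opens := ⟨(q₂ '' E)ᶜ, (q₂.isClosedMap E hE).isOpen_compl⟩
  let π : c.pt.left ⟶ U₀ := (c.π.app i).left
  have hπ : π ≫ u₀ = r' := by
    show (c.π.app i).left ≫ (D.obj i).hom ≫ g = c.pt.hom ≫ g
    rw [← Category.assoc]
    exact congrArg (· ≫ g) (Over.w (c.π.app i))
  have hy : π cR ∈ O := by
    rintro ⟨z, ⟨hzi, hzd⟩, hz⟩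
    obtain ⟨z', hz', -⟩ := Scheme.Pullback.exists_preimage_pullback (f := q₂) (g := π) z cR hz
    let g₀ := gpt z'
    let gz := g₀ ≫ pullback.fst q₂ π
    have hgz : gz (pt _) = z := by
      rw [Scheme.Hom.comp_apply, show g₀ (pt _) = z' from img_gpt z', hz']
    let ρ := g₀ ≫ pullback.snd q₂ π
    let πY : pullback (w ≫ f) r' ⟶ pullback (w ≫ f) u₀ :=
      pullback.lift (pullback.fst _ _) (pullback.snd _ _ ≫ π) (by rw [Category.assoc, hπ, pullback.condition])
    have hcomp : πY ≫ ei.inv = eL.inv ≫ B.c.π.app i := by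
      rw [Iso.eq_inv_comp, ← Category.assoc, Iso.comp_inv_eq]
      show eL.hom ≫ πY = pbπ Sy gA i ≫ ei.hom
      apply pullback.hom_ext
      · simp only [πY, Category.assoc, pullback.lift_fst]
        rw [eL1, ei1]
        exact (pbπ_fst_assoc Sy gA i (pullback.fst (w ≫ f) g)).symm
      · simp only [πY, Category.assoc, pullback.lift_snd]
        rw [reassoc_of% eL2, ei2]
        exact (pbπ_snd Sy gA i).symm
    have hidx : ∀ d : Spec _ ⟶ pullback (w ≫ f) r', idx₀ ((d ≫ πY) (pt _)) = sIdx ((d ≫ e.hom) (pt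
        (AlgebraicClosure ((pullback q₂ π).residueField z')))) := fun d => by
      have h1 : πY ≫ G₀ = e.hom ≫ mm := by
        show πY ≫ ei.inv ≫ Gi = _
        rw [reassoc_of% hcomp]
        exact (congrArg (eL.inv ≫ ·) hG).trans (eL.inv_hom_id_assoc _)
      calc idx₀ ((d ≫ πY) (pt _)) = sIdx (((d ≫ πY) ≫ G₀) (pt _)) := rfl
        _ = sIdx (((d ≫ e.hom) ≫ mm) (pt _)) := by rw [Category.assoc, h1, ← Category.assoc]
        _ = sIdx (mm ((d ≫ e.hom) (pt _))) := rfl
        _ = _ := sIdx_map _ _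
    have hcond := congrArg (· ≫ pullback.snd f u₀) (pullback.condition (f := m₀) (g := m₀))
    simp only [m₀, Category.assoc, mW_snd] at hcond
    have hq : g₀ ≫ pullback.fst q₂ π ≫ q₂ = g₀ ≫ pullback.snd q₂ π ≫ π := by rw [pullback.condition]
    have hw₀ : ∀ pr : W₂ ⟶ pullback (w ≫ f) u₀, pr ≫ pullback.snd _ _ = q₂ →
        ((gz ≫ pr) ≫ pullback.fst _ _) ≫ w ≫ f = ρ ≫ r' := fun pr hpr => by
      simp only [gz, ρ, Category.assoc]
      rw [pullback.condition, reassoc_of% hpr, ← hπ, reassoc_of% hq]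
    let aR := pullback.lift ((gz ≫ pullback.fst m₀ m₀) ≫ pullback.fst _ _) ρ (hw₀ _ rfl)
    let bR := pullback.lift ((gz ≫ pullback.snd m₀ m₀) ≫ pullback.fst _ _) ρ (hw₀ _ hcond.symm)
    have haR : aR ≫ πY = gz ≫ pullback.fst m₀ m₀ := by
      apply pullback.hom_ext
      · simp [aR, πY]
      · simp only [aR, πY, gz, ρ, Category.assoc, pullback.lift_snd, pullback.lift_snd_assoc]
        exact hq.symm
    have hbR : bR ≫ πY = gz ≫ pullback.snd m₀ m₀ := by
      apply pullback.hom_ext
      · simp [bR, πY]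
      · simp only [bR, πY, gz, ρ, Category.assoc, pullback.lift_snd, pullback.lift_snd_assoc]
        rw [← hcond]
        exact hq.symm
    have hR : aR = bR := by
      rw [← cancel_mono e.hom]
      refine eq_of_sIdx _ _ ?_ ?_
      · rw [← hidx, ← hidx, haR, hbR, Scheme.Hom.comp_apply gz, Scheme.Hom.comp_apply gz, hgz]
        exact hzi
      · rw [Category.assoc, Category.assoc, he]
        have hm := congrArg (· ≫ pullback.fst f u₀) (pullback.condition (f := m₀) (g := m₀))
        simp only [m₀, Category.assoc, mW_fst] at hm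
        apply pullback.hom_ext
        · simp only [aR, bR, Category.assoc, mW_fst, pullback.lift_fst_assoc]
          rw [hm]
        · simp [aR, bR]
    apply hzd
    refine ⟨(gz ≫ pullback.fst m₀ m₀) (pt _), ?_⟩
    rw [← Scheme.Hom.comp_apply, show (gz ≫ pullback.fst m₀ m₀) ≫ pullback.diagonal m₀ = gz from
      pullback.hom_ext (by simp) (by simp [← haR, hR, hbR]), hgz]
  refine ⟨{ U := O, u := O.ι ≫ u₀, et := inferInstance, mem := ⟨⟨π cR, hy⟩, ?_⟩, ι := ι,
            idx := fun z => idx₀ (pullback.lift (f := w ≫ f) (g := u₀) (pullback.fst _ _) (pullback.snd _ _ ≫ O.ι)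
              (by rw [Category.assoc]; exact pullback.condition) z),
            lc := hlc.comp_continuous (Scheme.Hom.continuous _), inj := ?_ }⟩
  · show (O.ι ≫ u₀) ⟨π cR, hy⟩ = s
    rw [Scheme.Hom.comp_apply, ← hcR, ← hπ, Scheme.Hom.comp_apply]
    rfl
  · intro K _ _ a b hab hi
    let κ : pullback (w ≫ f) (O.ι ≫ u₀) ⟶ pullback (w ≫ f) u₀ :=
      pullback.lift (pullback.fst _ _) (pullback.snd _ _ ≫ O.ι) (by rw [Category.assoc]; exact pullback.condition)
    have h1 := congrArg (· ≫ pullback.fst f (O.ι ≫ u₀)) hab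
    have h2 := congrArg (· ≫ pullback.snd f (O.ι ≫ u₀)) hab
    simp only [Category.assoc, mW_fst, mW_snd] at h1 h2
    let cc : Spec (CommRingCat.of K) ⟶ W₂ := pullback.lift (a ≫ κ) (b ≫ κ) (by
      apply pullback.hom_ext <;> simp [κ, m₀, h1, reassoc_of% h2])
    have hn : cc (pt K) ∉ E := by
      intro hmem
      have : (cc ≫ q₂) (pt K) ∈ O := by
        rw [show cc ≫ q₂ = (a ≫ pullback.snd _ _) ≫ O.ι by simp [cc, q₂, κ]]
        rw [Scheme.Hom.comp_apply]
        exact ((a ≫ pullback.snd _ _) (pt K)).2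
      exact this ⟨_, hmem, (Scheme.Hom.comp_apply cc q₂ _).symm⟩
    have hr : cc (pt K) ∈ Set.range (pullback.diagonal m₀) := by
      by_contra hc'
      refine hn ⟨?_, hc'⟩
      show idx₀ _ = idx₀ _
      rw [← Scheme.Hom.comp_apply cc, ← Scheme.Hom.comp_apply cc, pullback.lift_fst, pullback.lift_snd,
        Scheme.Hom.comp_apply, Scheme.Hom.comp_apply]
      exact hi
    let d := IsOpenImmersion.lift (pullback.diagonal m₀) cc (range_le cc hr)
    have hd : d ≫ pullback.diagonal m₀ = cc := IsOpenImmersion.lift_fac _ _ _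
    have hκ : a ≫ κ = b ≫ κ := by
      have ha := congrArg (· ≫ pullback.fst m₀ m₀) hd
      have hb := congrArg (· ≫ pullback.snd m₀ m₀) hd
      simp only [Category.assoc, pullback.diagonal_fst, pullback.diagonal_snd, Category.comp_id, cc,
        pullback.lift_fst, pullback.lift_snd] at ha hb
      exact ha.symm.trans hb
    have e1 := congrArg (· ≫ pullback.fst _ _) hκ
    simp [κ] at e1
    exact pullback.hom_ext e1 h2

end FEtSplit

end
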