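import Groth.Agent.FEtSplitLib.SectionsDescend
import Groth.Agent.FEtSplitLib.Exists
import Groth.Agent.FEtProperLib.Main
import Groth.Prelude.Def_Pi1X

/-! # Sheets near a fibre component -/

set_option autoImplicit false
set_option linter.style.haveILetI false
set_option backward.isDefEq.respectTransparency false
set_option backward.isDefEq.respectTransparency.types false
set_option maxHeartbeats 1000000

universe u

open CategoryTheory CategoryTheory.Limits AlgebraicGeometry WeightLib RichLib.LimBC AlgSpRegLib FEtProper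

noncomputable section

namespace FEtSplit

theorem etale_etaleLocus {X Y : Scheme.{u}} (g : X ⟶ Y) : Etale ((Pi1X.etaleLocus g).ι ≫ g) := by
  let L := Pi1X.etaleLocus g
  rw [IsZariskiLocalAtSource.iff_of_iSup_eq_top (P := @Etale) (fun U : {U : X.Opens // Etale (U.ι ≫ g)} => L.ι ⁻¹ᵁ U.1)]
  · rintro ⟨U, hU⟩
    have hle : U ≤ L := le_sSup hU
    have e : (L.ι ⁻¹ᵁ U).ι ≫ L.ι ≫ g = (L.ι ∣_ U) ≫ U.ι ≫ g := by
      rw [morphismRestrict_ι_assoc]
    rw [e]
    infer_instance
  · apply TopologicalSpace.Opens.ext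
    refine Set.eq_univ_of_forall fun x => ?_
    obtain ⟨U, hU, hxU⟩ := TopologicalSpace.Opens.mem_sSup.1 x.2
    exact TopologicalSpace.Opens.mem_iSup.2 ⟨⟨U, hU⟩, hxU⟩

theorem exists_field_factor {S : Scheme.{u}} (s : S) {K : Type u} [Field K] (ξ : Spec (CommRingCat.of K) ⟶ S)
    (h : ξ (IsLocalRing.closedPoint K) = s) :
    ∃ φ : S.residueField s ⟶ CommRingCat.of K, Spec.map φ ≫ S.fromSpecResidueField s = ξ := by
  subst h
  exact ⟨_, Scheme.descResidueField_stalkClosedPointTo_fromSpecResidueField K S ξ⟩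

theorem residue_point {R : Type u} [CommRing R] [IsLocalRing R] (y : Spec (CommRingCat.of (IsLocalRing.ResidueField R))) :
    Spec.map (CommRingCat.ofHom (IsLocalRing.residue R)) y = IsLocalRing.closedPoint R := by
  apply PrimeSpectrum.ext
  show y.asIdeal.comap (IsLocalRing.residue R) = IsLocalRing.maximalIdeal R
  rw [show y.asIdeal = ⊥ from Ideal.eq_bot_of_prime _]
  exact IsLocalRing.ker_residue

/-- Sheets over a strictly henselian base. -/
theorem exists_sections_strict {R : Type u} [CommRing R] [HenselianLocalRing R]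
    [IsSepClosed (IsLocalRing.ResidueField R)] {X Y : Scheme.{u}} (f : X ⟶ Spec (CommRingCat.of R)) [IsProper f]
    (g : Y ⟶ X) [IsProper g] (T : Set Y)
    (hT : IsClopen ((pullback.fst (g ≫ f) (Spec.map (CommRingCat.ofHom (IsLocalRing.residue R)))) ⁻¹' T))
    (L : Y.Opens) [Etale (L.ι ≫ g)] (hTL : ∀ y, (g ≫ f) y = IsLocalRing.closedPoint R → y ∈ T → y ∈ L)
    (h : ∀ (D : Y.Opens), (∀ y, (g ≫ f) y = IsLocalRing.closedPoint R → (y ∈ D ↔ y ∈ T)) →
      ∀ {P W : Scheme.{u}} (a : P ⟶ X)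
      (b : P ⟶ Spec (CommRingCat.of (AlgebraicClosure (IsLocalRing.ResidueField R)))),
      IsPullback a b f (spR (IsLocalRing.ResidueField R) (AlgebraicClosure (IsLocalRing.ResidueField R)) ≫
        Spec.map (CommRingCat.ofHom (IsLocalRing.residue R))) →
      ∀ (q : W ⟶ (D : Scheme.{u})) (v : W ⟶ P), IsPullback q v (D.ι ≫ g) a →
        ∃ (ι : Type u) (_ : Finite ι), Splits ι v) :
    ∃ (ι : Type u) (_ : Finite ι) (σ : ι → (X ⟶ Y)), (∀ i, σ i ≫ g = 𝟙 X) ∧
      (∀ i x, f x = IsLocalRing.closedPoint R → σ i x ∈ T) ∧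
      (∀ y, (g ≫ f) y = IsLocalRing.closedPoint R → y ∈ T → ∃ i x, σ i x = y) := by
  let q := Spec.map (CommRingCat.ofHom (IsLocalRing.residue R))
  let a := pullback.fst (g ≫ f) q
  let Y₁ : FEt.Cat Y := MorphismProperty.Over.mk ⊤ (𝟙 Y) ⟨inferInstance, inferInstance⟩
  let p₂ : pullback (𝟙 Y) a ⟶ pullback (g ≫ f) q := pullback.snd _ _
  obtain ⟨C₁, hC₁, -⟩ := FEtProper.clopenBij (IsLocalRing.maximalIdeal R) (g ≫ f) Y₁
    ⟨p₂ ⁻¹' (a ⁻¹' T), hT.preimage p₂.continuous⟩
  let Cs : Set ↥Y := ((C₁ : Set ↥Y₁.left) :)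
  have hCs : IsClopen Cs := C₁.isClopen
  let D : Y.Opens := ⟨Cs, hCs.isOpen⟩
  have hclosed : ∀ z, (g ≫ f) (a z) = IsLocalRing.closedPoint R := fun z => by
    rw [← Scheme.Hom.comp_apply, pullback.condition, Scheme.Hom.comp_apply]
    exact residue_point _
  have hD : ∀ y, (g ≫ f) y = IsLocalRing.closedPoint R → (y ∈ D ↔ y ∈ T) := by
    intro y hy
    obtain ⟨z, hz, -⟩ := Scheme.Pullback.exists_preimage_pullback (f := g ≫ f) (g := q) y
      (IsLocalRing.closedPoint (IsLocalRing.ResidueField R)) (hy.trans (residue_point _).symm)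
    obtain ⟨z', hz', hz''⟩ := Scheme.Pullback.exists_preimage_pullback (f := 𝟙 Y) (g := a) y z (by rw [hz]; rfl)
    have := Set.ext_iff.mp hC₁ z'
    change pullback.fst (𝟙 Y) a z' ∈ Cs ↔ a (p₂ z') ∈ T at this
    rw [show p₂ z' = z from hz'', hz', hz] at this
    exact this
  haveI : IsClosedImmersion D.ι := IsClosedImmersion.of_isPreimmersion _ (by
    rw [Scheme.Opens.range_ι]; exact hCs.isClosed)
  have hDL : D ≤ L := by
    by_contra hne
    obtain ⟨y, hy, hyL⟩ := Set.not_subset.mp hne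
    have hcl : IsClosed ((g ≫ f) '' ((D : Set Y) \ L)) :=
      (g ≫ f).isClosedMap _ (hCs.isClosed.sdiff L.2)
    obtain ⟨y', ⟨hy'D, hy'L⟩, hy'⟩ :=
      (IsLocalRing.specializes_closedPoint ((g ≫ f) y)).mem_closed hcl ⟨y, ⟨hy, hyL⟩, rfl⟩
    exact hy'L (hTL y' hy' ((hD y' hy').mp hy'D))
  haveI : Etale (D.ι ≫ g) := by
    rw [← Y.homOfLE_ι hDL, Category.assoc]
    infer_instance
  haveI : IsProper (D.ι ≫ g) := inferInstance
  haveI : LocallyQuasiFinite (D.ι ≫ g) := DescLib.lqf_of_unramified _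
  haveI : IsFinite (D.ι ≫ g) := IsFinite.of_isProper_of_locallyQuasiFinite _
  obtain ⟨ι, hι, e, he⟩ := splits_strict f (D.ι ≫ g) fun {P W} a b hP q v hq => h D hD a b hP q v hq
  have hσ : ∀ i, (Sigma.ι (fun _ : ι => X) i ≫ e.inv ≫ D.ι) ≫ g = 𝟙 X := fun i => by
    simp only [Category.assoc]
    rw [← he, e.inv_hom_id_assoc, Sigma.ι_desc]
  refine ⟨ι, hι, fun i => Sigma.ι (fun _ : ι => X) i ≫ e.inv ≫ D.ι, hσ, fun i x hx => ?_, fun y hy hyT => ?_⟩
  · refine (hD _ ?_).mp ?_
    · rw [← Scheme.Hom.comp_apply, ← Category.assoc, hσ i, Category.id_comp]; exact hx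
    · exact ((Sigma.ι (fun _ : ι => X) i ≫ e.inv) x).2
  · let y' : (D : Scheme.{u}) := ⟨y, (hD y hy).mpr hyT⟩
    obtain ⟨i, x, hx⟩ := DescLib.exists_sigma_mem (e.hom y')
    refine ⟨i, x, ?_⟩
    show D.ι (e.inv (Sigma.ι (fun _ : ι => X) i x)) = y
    rw [hx, ← Scheme.Hom.comp_apply e.hom e.inv, e.hom_inv_id]
    rfl

variable {X X' S : Scheme.{u}} (f : X ⟶ S) (g : X' ⟶ X) (s : S)

theorem injective_fibre_fst : Function.Injective (pullback.fst (g ≫ f) (S.fromSpecResidueField s)) := by
  haveI : IsPreimmersion (pullback.fst (g ≫ f) (S.fromSpecResidueField s)) :=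
    MorphismProperty.pullback_fst _ _ inferInstance
  exact (pullback.fst (g ≫ f) (S.fromSpecResidueField s)).isEmbedding.injective

/-- The part of the proper scheme under a part of the fibre. -/
def under (C : (pullback (g ≫ f) (S.fromSpecResidueField s)).Opens) : Set X' :=
  pullback.fst (g ≫ f) (S.fromSpecResidueField s) '' (C : Set _)

theorem mem_under (C : (pullback (g ≫ f) (S.fromSpecResidueField s)).Opens)
    (z : ↥(pullback (g ≫ f) (S.fromSpecResidueField s))) :
    pullback.fst (g ≫ f) (S.fromSpecResidueField s) z ∈ under f g s C ↔ z ∈ C :=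
  (injective_fibre_fst f g s).mem_set_image

theorem isClopen_under (C : (pullback (g ≫ f) (S.fromSpecResidueField s)).Opens)
    (hCcl : IsClosed (C : Set ↥(pullback (g ≫ f) (S.fromSpecResidueField s))))
    {R k : CommRingCat.{u}} (r : Spec R ⟶ S) (q : Spec k ⟶ Spec R) (φ : S.residueField s ⟶ k)
    (hφ : Spec.map φ ≫ S.fromSpecResidueField s = q ≫ r) :
    IsClopen (pullback.fst (mW g f r ≫ pullback.snd f r) q ⁻¹' (pullback.fst (g ≫ f) r ⁻¹' under f g s C)) := by
  let m : pullback (mW g f r ≫ pullback.snd f r) q ⟶ pullback (g ≫ f) (S.fromSpecResidueField s) :=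
    pullback.lift (pullback.fst _ _ ≫ pullback.fst _ _) (pullback.snd _ _ ≫ Spec.map φ) (by
      rw [Category.assoc, pullback.condition, ← mW_snd g f r, Category.assoc, Category.assoc, hφ]
      exact pullback.condition_assoc r)
  have : pullback.fst (mW g f r ≫ pullback.snd f r) q ⁻¹' (pullback.fst (g ≫ f) r ⁻¹' under f g s C) = m ⁻¹' (C : Set _) := by
    ext z
    show pullback.fst (g ≫ f) r (pullback.fst (mW g f r ≫ pullback.snd f r) q z) ∈ under f g s C ↔ m z ∈ C
    rw [← mem_under f g s C (m z), ← Scheme.Hom.comp_apply m, pullback.lift_fst, Scheme.Hom.comp_apply]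
  rw [this]
  exact (show IsClopen (C : Set ↥(pullback (g ≫ f) (S.fromSpecResidueField s))) from ⟨hCcl, C.2⟩).preimage m.continuous

/-- The part over the closed point of a strictly henselian ring is split. -/
theorem splits_under (C : (pullback (g ≫ f) (S.fromSpecResidueField s)).Opens) {ιs : Type u}
    (hsp : Splits ιs
      (pullback.snd (C.ι ≫ mW g f (S.fromSpecResidueField s)) (pullback.fst (pullback.snd f (S.fromSpecResidueField s))
        (Spec.map (CommRingCat.ofHom (algebraMap (S.residueField s) (AlgebraicClosure (S.residueField s))))))))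
    {R : Type u} [CommRing R] [IsLocalRing R] (r : Spec (CommRingCat.of R) ⟶ S)
    (φ : S.residueField s ⟶ CommRingCat.of (IsLocalRing.ResidueField R))
    (hφ : Spec.map φ ≫ S.fromSpecResidueField s = Spec.map (CommRingCat.ofHom (IsLocalRing.residue R)) ≫ r)
    (D : (pullback (g ≫ f) r).Opens)
    (hD : ∀ y, (mW g f r ≫ pullback.snd f r) y = IsLocalRing.closedPoint R →
      (y ∈ D ↔ pullback.fst (g ≫ f) r y ∈ under f g s C))
    {P W : Scheme.{u}} (a : P ⟶ pullback f r)
    (b : P ⟶ Spec (CommRingCat.of (AlgebraicClosure (IsLocalRing.ResidueField R))))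
    (hP : IsPullback a b (pullback.snd f r) (spR (IsLocalRing.ResidueField R) (AlgebraicClosure (IsLocalRing.ResidueField R)) ≫
        Spec.map (CommRingCat.ofHom (IsLocalRing.residue R))))
    (q' : W ⟶ (D : Scheme.{u})) (v : W ⟶ P) (hq : IsPullback q' v (D.ι ≫ mW g f r) a) : Splits ιs v := by
  let fs := S.fromSpecResidueField s
  let fR := pullback.snd f r
  let gR := mW g f r
  let q := Spec.map (CommRingCat.ofHom (IsLocalRing.residue R))
  let k := IsLocalRing.ResidueField R
  let K := AlgebraicClosure k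
  let φK : S.residueField s ⟶ CommRingCat.of K := φ ≫ CommRingCat.ofHom (algebraMap k K)
  letI : Algebra (S.residueField s) K := φK.hom.toAlgebra
  let lA : AlgebraicClosure (S.residueField s) →ₐ[S.residueField s] K := IsAlgClosed.lift
  let alg := Spec.map (CommRingCat.ofHom (algebraMap (S.residueField s) (AlgebraicClosure (S.residueField s))))
  let l := Spec.map (CommRingCat.ofHom lA.toRingHom)
  have hl : l ≫ alg = Spec.map φK := by
    show Spec.map _ ≫ Spec.map _ = _
    rw [← Spec.map_comp, ← CommRingCat.ofHom_comp]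
    exact congrArg Spec.map (CommRingCat.hom_ext lA.comp_algebraMap)
  have hφK : Spec.map φK ≫ fs = spR k K ≫ q ≫ r := by
    show Spec.map (φ ≫ _) ≫ fs = _
    rw [Spec.map_comp, Category.assoc, hφ]
  let aX := a ≫ pullback.fst f r
  have haX : aX ≫ f = b ≫ Spec.map φK ≫ fs := by
    show (a ≫ pullback.fst f r) ≫ f = _
    rw [Category.assoc, pullback.condition, reassoc_of% hP.w, hφK]
  let as : P ⟶ pullback f fs := pullback.lift aX (b ≫ Spec.map φK) (by rw [haX, Category.assoc])
  let θ : P ⟶ pullback (pullback.snd f fs) alg :=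
    pullback.lift as (b ≫ l) (by rw [Category.assoc, hl]; exact pullback.lift_snd _ _ _)
  let Z := pullback g aX
  let zR : Z ⟶ pullback (g ≫ f) r := pullback.lift (pullback.fst _ _) (pullback.snd g aX ≫ a ≫ pullback.snd f r)
    (by
      rw [← Category.assoc, pullback.condition]
      simp only [aX, Category.assoc, pullback.condition])
  let zs : Z ⟶ pullback (g ≫ f) fs := pullback.lift (pullback.fst _ _) (pullback.snd g aX ≫ b ≫ Spec.map φK)
    (by
      rw [← Category.assoc, pullback.condition]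
      simp only [Category.assoc, haX])
  have sqR : IsPullback zR (pullback.snd g aX) gR a := by
    refine IsPullback.of_right ?_ ?_ (isPullback_mW g f r)
    · rw [show zR ≫ pullback.fst (g ≫ f) r = pullback.fst g aX from pullback.lift_fst _ _ _]
      exact IsPullback.of_hasPullback g aX
    · apply pullback.hom_ext
      · simp only [gR, zR, Category.assoc, mW_fst, pullback.lift_fst_assoc]
        exact pullback.condition
      · simp [gR, zR]
  have sqs : IsPullback zs (pullback.snd g aX) (mW g f fs) as := by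
    refine IsPullback.of_right ?_ ?_ (isPullback_mW g f fs)
    · rw [show zs ≫ pullback.fst (g ≫ f) fs = pullback.fst g aX from pullback.lift_fst _ _ _,
        show as ≫ pullback.fst f fs = aX from pullback.lift_fst _ _ _]
      exact IsPullback.of_hasPullback g aX
    · apply pullback.hom_ext
      · simp only [zs, as, Category.assoc, mW_fst, pullback.lift_fst_assoc, pullback.lift_fst]
        exact pullback.condition
      · simp [zs, as]
  have hOO : zR ⁻¹ᵁ D = zs ⁻¹ᵁ C := by
    apply TopologicalSpace.Opens.ext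
    ext z
    show zR z ∈ D ↔ zs z ∈ C
    have hz : (gR ≫ fR) (zR z) = IsLocalRing.closedPoint R := by
      have e : zR ≫ gR ≫ fR = (pullback.snd g aX ≫ b ≫ spR k K) ≫ q := by
        rw [reassoc_of% sqR.w, hP.w]; simp only [Category.assoc]; rfl
      rw [← Scheme.Hom.comp_apply, e, Scheme.Hom.comp_apply]
      exact residue_point _
    rw [hD _ hz]
    show pullback.fst (g ≫ f) r (zR z) ∈ under f g s C ↔ _
    rw [← Scheme.Hom.comp_apply, show zR ≫ pullback.fst _ _ = pullback.fst g aX from pullback.lift_fst _ _ _,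
      ← mem_under f g s C (zs z), ← Scheme.Hom.comp_apply zs, show zs ≫ pullback.fst _ _ = pullback.fst g aX from
        pullback.lift_fst _ _ _]
  have pR : IsPullback (zR ∣_ D) ((zR ⁻¹ᵁ D).ι ≫ pullback.snd g aX) (D.ι ≫ gR) a :=
    (isPullback_morphismRestrict zR D).paste_vert sqR
  have pC : IsPullback (zs ∣_ C) ((zs ⁻¹ᵁ C).ι ≫ pullback.snd g aX) (C.ι ≫ mW g f fs) as :=
    (isPullback_morphismRestrict zs C).paste_vert sqs
  let eW := (hq.isoIsPullback _ _ pR) ≪≫ Scheme.isoOfEq _ hOO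
  have heW : eW.hom ≫ (zs ⁻¹ᵁ C).ι ≫ pullback.snd g aX = v := by
    simp only [eW, Iso.trans_hom, Category.assoc, Scheme.isoOfEq_hom_ι_assoc]
    exact hq.isoIsPullback_hom_snd _ _ pR
  have sqW : IsPullback (eW.hom ≫ (zs ∣_ C)) v (C.ι ≫ mW g f fs) as :=
    pC.of_iso eW.symm (Iso.refl _) (Iso.refl _) (Iso.refl _) (by simp) (by simp [← heW]) (by simp) (by simp)
  have has : θ ≫ pullback.fst (pullback.snd f fs) alg = as := pullback.lift_fst _ _ _
  let β : W ⟶ pullback (C.ι ≫ mW g f fs) (pullback.fst (pullback.snd f fs) alg) :=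
    pullback.lift (eW.hom ≫ (zs ∣_ C)) (v ≫ θ) (by rw [sqW.w, Category.assoc, has])
  refine hsp.of_isPullback (q := β) (g := θ) ?_
  refine IsPullback.of_right ?_ (pullback.lift_snd _ _ _) (IsPullback.of_hasPullback _ _)
  rw [has, pullback.lift_fst]
  exact sqW

omit f g s in
theorem exists_common_source {I : Type u} [SmallCategory I] [IsCofiltered I] {ι : Type u} [Finite ι] (jj : ι → I) :
    ∃ j, ∀ i, ∃ _a : j ⟶ jj i, True := by
  classical
  haveI := Fintype.ofFinite ι
  obtain ⟨j, hj⟩ := IsCofiltered.inf_objs_exists (Finset.univ.image jj)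
  exact ⟨j, fun i => ⟨(hj (Finset.mem_image_of_mem jj (Finset.mem_univ i))).some, trivial⟩⟩

set_option maxHeartbeats 4000000 in
omit f g s in
/-- Sheets over a strict henselization are defined over an étale neighbourhood. -/
theorem exists_stage_sheets {A : CommRingCat.{u}} (p : Ideal A) [p.IsPrime] {Y Y' Z : Scheme.{u}}
    (fA : Y ⟶ Spec A) [IsProper fA] (π : Y ⟶ Z) (g : Y' ⟶ Z) [LocallyOfFinitePresentation g]
    {ι : Type u} [Finite ι] (σ : ι → (pullback fA (Spec.map (CommRingCat.ofHom (shι p))) ⟶ Y'))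
    (hσ : ∀ i, σ i ≫ g = pullback.fst _ _ ≫ π) :
    ∃ (U : Scheme.{u}) (u : U ⟶ Spec A) (ρ : Spec (CommRingCat.of (ShAt p)) ⟶ U)
      (hρ : ρ ≫ u = Spec.map (CommRingCat.ofHom (shι p))) (τ : ι → (pullback fA u ⟶ Y')),
      Etale u ∧ ∀ i, τ i ≫ g = pullback.fst _ _ ≫ π ∧
        pullback.lift (pullback.fst _ _) (pullback.snd _ _ ≫ ρ)
          (by rw [Category.assoc, hρ, pullback.condition]) ≫ τ i = σ i := by
  obtain ⟨I, _, _, D, c, hpt, ⟨hc⟩, hD⟩ := EtProperH0Lib.exists_sh_system p
  let eR : c.pt ≅ Over.mk (Spec.map (CommRingCat.ofHom (shι p))) := eqToIso hpt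
  let Sy : Sys I (Spec A) :=
    { D := D ⋙ Over.forget _
      t := fun i => (D.obj i).hom
      w := fun a => Over.w (D.map a)
      c := (Over.forget _).mapCone c
      hc := hc
      affine := fun i => by
        haveI := (hD i).1
        exact isAffineHom_of_isAffine (D.obj i).hom
      s := c.pt.hom
      hs := fun i => Over.w (c.π.app i) }
  let B := RichLib.LimBC.pb Sy fA
  haveI : CompactSpace ↥Y := QuasiCompact.compactSpace_of_compactSpace fA
  haveI : QuasiSeparatedSpace ↥Y := quasiSeparatedSpace_of_quasiSeparated fA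
  haveI : ∀ {i j} (a : i ⟶ j), IsAffineHom (B.D.map a) := fun a => B.affine_map a
  haveI : ∀ i, CompactSpace (B.D.obj i) := fun i => B.compactSpace_obj i
  haveI : ∀ i, QuasiSeparatedSpace (B.D.obj i) := fun i => B.quasiSeparatedSpace_obj i
  have h₁ : eR.hom.left ≫ Spec.map (CommRingCat.ofHom (shι p)) = c.pt.hom := Over.w eR.hom
  have h₂ : eR.inv.left ≫ c.pt.hom = Spec.map (CommRingCat.ofHom (shι p)) := Over.w eR.inv
  have h₃ : eR.inv.left ≫ eR.hom.left = 𝟙 _ := by rw [← Over.comp_left, eR.inv_hom_id]; rfl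
  let κ : pullback fA c.pt.hom ⟶ pullback fA (Spec.map (CommRingCat.ofHom (shι p))) :=
    pullback.lift (pullback.fst _ _) (pullback.snd _ _ ≫ eR.hom.left)
      (by rw [Category.assoc, h₁, pullback.condition])
  let κi : pullback fA (Spec.map (CommRingCat.ofHom (shι p))) ⟶ pullback fA c.pt.hom :=
    pullback.lift (pullback.fst _ _) (pullback.snd _ _ ≫ eR.inv.left)
      (by rw [Category.assoc, h₂, pullback.condition])
  have hκ : κi ≫ κ = 𝟙 _ := by
    apply pullback.hom_ext
    · simp [κi, κ]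
    · simp only [κi, κ, Category.assoc, pullback.lift_snd, pullback.lift_snd_assoc, Category.id_comp, h₃]
      exact Category.comp_id _
  let tt : B.D ⟶ (Functor.const I).obj Z :=
    { app := fun i => B.t i ≫ π
      naturality := fun i j b => by
        show B.D.map b ≫ B.t j ≫ π = (B.t i ≫ π) ≫ 𝟙 _
        rw [Category.comp_id, ← Category.assoc, B.w b] }
  have hstage : ∀ i : ι, ∃ (j : I) (G : B.D.obj j ⟶ Y'),
      B.c.π.app j ≫ G = κ ≫ σ i ∧ G ≫ g = tt.app j :=
    fun i => Scheme.exists_π_app_comp_eq_of_locallyOfFinitePresentation B.D tt g B.c B.hc _ (by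
      ext j
      show B.c.π.app j ≫ B.t j ≫ π = (κ ≫ σ i) ≫ g
      rw [← Category.assoc, B.hs j, Category.assoc, hσ i, ← Category.assoc, pullback.lift_fst]
      rfl)
  choose jj G hG hG' using hstage
  obtain ⟨j, hj⟩ := exists_common_source jj
  choose aj _ using fun i : ι => hj i
  let ρ : Spec (CommRingCat.of (ShAt p)) ⟶ (D.obj j).left := eR.inv.left ≫ (c.π.app j).left
  have hρ : ρ ≫ (D.obj j).hom = Spec.map (CommRingCat.ofHom (shι p)) := by
    rw [Category.assoc, Over.w (c.π.app j)]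
    exact h₂
  refine ⟨(D.obj j).left, (D.obj j).hom, ρ, hρ, fun i => B.D.map (aj i) ≫ G i, (hD j).2, fun i => ⟨?_, ?_⟩⟩
  · rw [Category.assoc]
    refine (congrArg (B.D.map (aj i) ≫ ·) (hG' i)).trans ?_
    show B.D.map (aj i) ≫ B.t (jj i) ≫ π = _
    rw [← Category.assoc, B.w (aj i)]
    rfl
  · have h4 : κi ≫ B.c.π.app j = pullback.lift (pullback.fst _ _) (pullback.snd _ _ ≫ ρ)
        (by rw [Category.assoc, hρ, pullback.condition]) := by
      apply pullback.hom_ext
      · rw [Category.assoc]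
        refine (congrArg (κi ≫ ·) (pbπ_fst Sy fA j)).trans ?_
        exact (pullback.lift_fst _ _ _).trans (pullback.lift_fst _ _ _).symm
      · rw [Category.assoc]
        refine (congrArg (κi ≫ ·) (pbπ_snd Sy fA j)).trans ?_
        show κi ≫ pullback.snd fA c.pt.hom ≫ (c.π.app j).left = _
        rw [pullback.lift_snd, ← Category.assoc, pullback.lift_snd, Category.assoc]
    refine (congrArg (· ≫ B.D.map (aj i) ≫ G i) h4.symm).trans ?_
    rw [Category.assoc, ← Category.assoc (B.c.π.app j), B.c.w (aj i)]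
    refine (congrArg (κi ≫ ·) (hG i)).trans ?_
    rw [← Category.assoc, hκ, Category.id_comp]

omit f g s in
/-- The union of finitely many sheets over an affine étale scheme descends. -/
theorem exists_descended_union {X X' S : Scheme.{u}} (f : X ⟶ S) [IsProper f] [Surjective f] (hconn : GeoConn f)
    (g : X' ⟶ X) [IsProper g] {A : CommRingCat.{u}} (gA : Spec A ⟶ S) [IsOpenImmersion gA]
    {U : Scheme.{u}} [IsAffine U] (u : U ⟶ Spec A) [Etale u] {ι : Type u} [Finite ι]
    (τ : ι → (pullback (pullback.snd f gA) u ⟶ X')) (hτ : ∀ i, τ i ≫ g = pullback.fst _ _ ≫ pullback.fst f gA)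
    (hL : ∀ i x, τ i x ∈ Pi1X.etaleLocus g) :
    ∃ W : X'.Opens, (∀ i x, τ i x ∈ W) ∧ ∃ (S₁ : Scheme.{u}) (e : S₁ ⟶ S) (_ : Etale e)
      (φ : (W : Scheme.{u}) ≅ pullback f e), φ.hom ≫ pullback.fst f e = W.ι ≫ g := by
  let L₀ := Pi1X.etaleLocus g
  haveI : Etale (L₀.ι ≫ g) := etale_etaleLocus g
  let fA := pullback.snd f gA
  have hτL : ∀ i, Set.range (τ i) ⊆ Set.range L₀.ι := fun i => by
    rw [Scheme.Opens.range_ι]
    rintro _ ⟨x, rfl⟩
    exact hL i x
  haveI hτet : ∀ i, Etale (τ i) := fun i => by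
    let l := IsOpenImmersion.lift L₀.ι (τ i) (hτL i)
    haveI : Etale (l ≫ L₀.ι ≫ g) := by
      rw [IsOpenImmersion.lift_fac_assoc, hτ i]
      infer_instance
    haveI : Etale l := Etale.of_comp l (L₀.ι ≫ g)
    rw [← IsOpenImmersion.lift_fac L₀.ι (τ i) (hτL i)]
    infer_instance
  let W : X'.Opens := ⟨⋃ i, Set.range (τ i), isOpen_iUnion fun i => (τ i).isOpenMap.isOpen_range⟩
  have hW : ∀ i x, τ i x ∈ W := fun i x => Set.mem_iUnion.2 ⟨i, x, rfl⟩
  haveI : CompactSpace ↥(pullback fA u) := QuasiCompact.compactSpace_of_compactSpace (pullback.snd fA u)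
  haveI : CompactSpace ↥(W : Scheme.{u}) :=
    isCompact_iff_compactSpace.mp (isCompact_iUnion fun i => isCompact_range (τ i).continuous)
  have hWL : W ≤ L₀ := by
    rintro x hx
    obtain ⟨i, y, rfl⟩ := Set.mem_iUnion.mp hx
    exact hL i y
  haveI : Etale (W.ι ≫ g) := by
    rw [← X'.homOfLE_ι hWL, Category.assoc]
    infer_instance
  have hWr : Set.range (W.ι ≫ g) ⊆ Set.range (pullback.fst f gA) := by
    rintro _ ⟨⟨x, hx⟩, rfl⟩
    obtain ⟨i, x', rfl⟩ := Set.mem_iUnion.mp hx
    refine ⟨pullback.fst fA u x', ?_⟩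
    exact (congrArg (fun h : pullback fA u ⟶ X => h x') (hτ i)).symm
  let wA := IsOpenImmersion.lift (pullback.fst f gA) (W.ι ≫ g) hWr
  have hwA : wA ≫ pullback.fst f gA = W.ι ≫ g := IsOpenImmersion.lift_fac _ _ _
  haveI : Etale (wA ≫ pullback.fst f gA) := by rw [hwA]; infer_instance
  haveI : Etale wA := Etale.of_comp wA (pullback.fst f gA)
  haveI : IsSeparated (wA ≫ pullback.fst f gA) := by rw [hwA]; infer_instance
  haveI : IsSeparated wA := IsSeparated.of_comp wA (pullback.fst f gA)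
  haveI : QuasiSeparatedSpace ↥(pullback f gA) := quasiSeparatedSpace_of_quasiSeparated fA
  haveI : QuasiCompact wA := inferInstance
  haveI : Surjective fA := inferInstance
  have hconnA : GeoConn fA := fun K _ _ ξ => by
    haveI := hconn K (ξ ≫ gA)
    exact (pullbackLeftPullbackSndIso f gA ξ).hom.homeomorph.connectedSpace_iff.2 inferInstance
  have hlift : ∀ i, Set.range (τ i) ⊆ Set.range W.ι := fun i => by
    rw [Scheme.Opens.range_ι]; exact Set.subset_iUnion (fun i => Set.range (τ i)) i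
  let cW : SecFam wA fA :=
    { U := U, u := u, et := inferInstance, ι := ι, σ := fun i => IsOpenImmersion.lift W.ι (τ i) (hlift i)
      hσ := fun i => by
        rw [← cancel_mono (pullback.fst f gA), Category.assoc, hwA, IsOpenImmersion.lift_fac_assoc]
        exact hτ i
      cover := fun ⟨v, hv⟩ => by
        obtain ⟨i, x, hx⟩ := Set.mem_iUnion.mp hv
        refine ⟨i, x, W.ι.isOpenEmbedding.injective ?_⟩
        rw [← Scheme.Hom.comp_apply, IsOpenImmersion.lift_fac]
        exact hx }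
  obtain ⟨T, v, hv, e, he⟩ := exists_descent₂ cW hconnA
  refine ⟨W, hW, T, v ≫ gA, inferInstance, e ≪≫ pullbackLeftPullbackSndIso f gA v, ?_⟩
  rw [Iso.trans_hom, Category.assoc, pullbackLeftPullbackSndIso_hom_fst, ← Category.assoc, he, hwA]

set_option maxHeartbeats 4000000 in
/-- Near an open and closed part of a fibre which is a split finite étale cover, a proper scheme
over the source is the base change of an étale scheme over the base. -/
theorem exists_trivialisation [IsProper f] [Surjective f] (hconn : GeoConn f) [IsProper g]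
    [LocallyOfFinitePresentation g]
    (C : (pullback (g ≫ f) (S.fromSpecResidueField s)).Opens)
    (hCcl : IsClosed (C : Set ↥(pullback (g ≫ f) (S.fromSpecResidueField s))))
    (het : ∀ c : C, pullback.fst (g ≫ f) (S.fromSpecResidueField s) c.1 ∈ Pi1X.etaleLocus g)
    (hsplit : ∃ (ι : Type u) (_ : Finite ι), Splits ι
      (pullback.snd (C.ι ≫ mW g f (S.fromSpecResidueField s)) (pullback.fst (pullback.snd f (S.fromSpecResidueField s))
        (Spec.map (CommRingCat.ofHom (algebraMap (S.residueField s) (AlgebraicClosure (S.residueField s)))))))) :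
    ∃ W : X'.Opens, (∀ c : C, pullback.fst (g ≫ f) (S.fromSpecResidueField s) c.1 ∈ W) ∧
      ∃ (S₁ : Scheme.{u}) (e : S₁ ⟶ S) (_ : Etale e) (φ : (W : Scheme.{u}) ≅ pullback f e),
        φ.hom ≫ pullback.fst f e = W.ι ≫ g := by
  obtain ⟨_, ⟨O₁, hO₁, rfl⟩, hs, -⟩ := S.isBasis_affineOpens.exists_subset_of_mem_open (Set.mem_univ s) isOpen_univ
  let A := Γ(S, O₁)
  let gA : Spec A ⟶ S := hO₁.fromSpec
  let pp : PrimeSpectrum A := hO₁.primeIdealOf ⟨s, hs⟩
  let p : Ideal A := pp.asIdeal
  let R := ShAt p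
  let r₀ : Spec (CommRingCat.of R) ⟶ Spec A := Spec.map (CommRingCat.ofHom (shι p))
  let r : Spec (CommRingCat.of R) ⟶ S := r₀ ≫ gA
  have hrs : r (IsLocalRing.closedPoint R) = s := by
    show gA (r₀ (IsLocalRing.closedPoint R)) = s
    rw [show r₀ (IsLocalRing.closedPoint R) = pp from
      PrimeSpectrum.ext (EtProperH0Lib.comap_shι p)]
    exact hO₁.fromSpec_primeIdealOf ⟨s, hs⟩
  haveI : IsSepClosed (IsLocalRing.ResidueField (ShAt p)) :=
    (Hensel.IsStrictHenselization.isSepClosure (R := Localization.AtPrime p) (S := ShAt p)).sep_closed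
  haveI : IsProper (mW g f r) := MorphismProperty.of_isPullback (isPullback_mW g f r) ‹IsProper g›
  let q := Spec.map (CommRingCat.ofHom (IsLocalRing.residue R))
  obtain ⟨φ, hφ⟩ := exists_field_factor s (q ≫ r) (by rw [Scheme.Hom.comp_apply, residue_point]; exact hrs)
  let L₀ := Pi1X.etaleLocus g
  haveI : Etale (L₀.ι ≫ g) := etale_etaleLocus g
  haveI : Etale ((pullback.fst (g ≫ f) r ⁻¹ᵁ L₀).ι ≫ mW g f r) := MorphismProperty.of_isPullback
    ((isPullback_morphismRestrict (pullback.fst (g ≫ f) r) L₀).paste_vert (isPullback_mW g f r))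
    ‹Etale (L₀.ι ≫ g)›
  obtain ⟨ιs, _, hsp⟩ := hsplit
  obtain ⟨ι, _, σR, hσR, hσT, hσcov⟩ := exists_sections_strict (pullback.snd f r) (mW g f r)
    (pullback.fst (g ≫ f) r ⁻¹' under f g s C) (isClopen_under f g s C hCcl r q φ hφ)
    (pullback.fst (g ≫ f) r ⁻¹ᵁ L₀)
    (by
      rintro y - ⟨c, hc, hcy⟩
      show pullback.fst (g ≫ f) r y ∈ L₀
      rw [← hcy]
      exact het ⟨c, hc⟩)
    (fun D hD {P W} a b hP q' v hq => ⟨ιs, inferInstance, splits_under f g s C hsp r φ hφ D hD a b hP q' v hq⟩)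
  let fA := pullback.snd f gA
  let iR : pullback fA r₀ ≅ pullback f r := pullbackLeftPullbackSndIso f gA r₀
  have iR1 : iR.hom ≫ pullback.fst f r = pullback.fst fA r₀ ≫ pullback.fst f gA :=
    pullbackLeftPullbackSndIso_hom_fst _ _ _
  have iR2 : iR.hom ≫ pullback.snd f r = pullback.snd fA r₀ := pullbackLeftPullbackSndIso_hom_snd _ _ _
  let σ : ι → (pullback fA r₀ ⟶ X') := fun i => iR.hom ≫ σR i ≫ pullback.fst (g ≫ f) r
  obtain ⟨U, u, ρ, hρ, τ, hu, hτ⟩ := exists_stage_sheets p fA (pullback.fst f gA) g σ (fun i => by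
    simp only [σ, Category.assoc, ← mW_fst g f r]
    rw [reassoc_of% hσR i, iR1])
  let κ : pullback fA r₀ ⟶ pullback fA u :=
    pullback.lift (pullback.fst _ _) (pullback.snd _ _ ≫ ρ) (by rw [Category.assoc, hρ, pullback.condition])
  have sq : IsPullback κ (pullback.snd fA r₀) (pullback.snd fA u) ρ := by
    refine IsPullback.of_right ?_ (pullback.lift_snd _ _ _) (IsPullback.of_hasPullback fA u)
    rw [hρ, pullback.lift_fst]
    exact IsPullback.of_hasPullback fA r₀
  let y : U := ρ (IsLocalRing.closedPoint R)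
  let N : Set U := ⋃ i, pullback.snd fA u '' (τ i ⁻¹' (L₀ : Set X')ᶜ)
  have hN : IsClosed N := isClosed_iUnion_of_finite fun i =>
    (pullback.snd fA u).isClosedMap _ (L₀.2.isClosed_compl.preimage (τ i).continuous)
  have hτσ : ∀ i z, τ i (κ z) = pullback.fst (g ≫ f) r (σR i (iR.hom z)) := fun i z =>
    congrArg (fun h : pullback fA r₀ ⟶ X' => h z) (hτ i).2
  have hcl : ∀ z, pullback.snd f r (iR.hom z) = pullback.snd fA r₀ z := fun z =>
    congrArg (fun h : pullback fA r₀ ⟶ _ => h z) iR2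
  have hy : y ∉ N := by
    simp only [N, Set.mem_iUnion, not_exists]
    rintro i ⟨x, hx, hxy⟩
    obtain ⟨x', hx', hx''⟩ := Scheme.Pullback.exists_preimage_pullback (f := pullback.snd fA u) (g := ρ) x
      (IsLocalRing.closedPoint R) hxy
    have hz₁ : κ (sq.isoPullback.inv x') = x := by
      rw [← hx', ← Scheme.Hom.comp_apply, sq.isoPullback_inv_fst]
    have hz₂ : pullback.snd f r (iR.hom (sq.isoPullback.inv x')) = IsLocalRing.closedPoint R := by
      rw [hcl, ← hx'', ← Scheme.Hom.comp_apply, sq.isoPullback_inv_snd]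
    apply hx
    rw [← hz₁, hτσ]
    obtain ⟨c, hc, hcy⟩ := hσT i _ hz₂
    rw [← hcy]
    exact het ⟨c, hc⟩
  obtain ⟨_, ⟨O₀, hO, rfl⟩, hyO, hON⟩ :=
    U.isBasis_affineOpens.exists_subset_of_mem_open (show y ∈ Nᶜ from hy) hN.isOpen_compl
  let O : U.Opens := O₀
  haveI : IsAffine (O : Scheme.{u}) := hO
  let κO : pullback fA (O.ι ≫ u) ⟶ pullback fA u :=
    pullback.lift (pullback.fst _ _) (pullback.snd _ _ ≫ O.ι) (by rw [Category.assoc]; exact pullback.condition)
  have sqO : IsPullback κO (pullback.snd fA (O.ι ≫ u)) (pullback.snd fA u) O.ι := by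
    refine IsPullback.of_right ?_ (pullback.lift_snd _ _ _) (IsPullback.of_hasPullback fA u)
    rw [pullback.lift_fst]
    exact IsPullback.of_hasPullback fA (O.ι ≫ u)
  have hκO : ∀ x, pullback.snd fA u (κO x) ∈ O := fun x => by
    rw [← Scheme.Hom.comp_apply, pullback.lift_snd]
    exact (pullback.snd fA (O.ι ≫ u) x).2
  obtain ⟨W, hW, hWe⟩ := exists_descended_union f hconn g gA (O.ι ≫ u) (fun i => κO ≫ τ i)
    (fun i => by rw [Category.assoc, (hτ i).1, ← Category.assoc, pullback.lift_fst])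
    (fun i x => by
      by_contra hne
      exact hON (hκO x) (Set.mem_iUnion.2 ⟨i, κO x, hne, rfl⟩))
  refine ⟨W, fun cc => ?_, hWe⟩
  let x := pullback.fst (g ≫ f) (S.fromSpecResidueField s) cc.1
  have hx : (g ≫ f) x = r (IsLocalRing.closedPoint R) := by
    rw [hrs, ← Scheme.Hom.comp_apply, pullback.condition, Scheme.Hom.comp_apply]
    exact S.fromSpecResidueField_apply s _
  obtain ⟨z, hz₁, hz₂⟩ := Scheme.Pullback.exists_preimage_pullback (f := g ≫ f) (g := r) x
    (IsLocalRing.closedPoint R) hx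
  have hzc : (mW g f r ≫ pullback.snd f r) z = IsLocalRing.closedPoint R := by
    rw [mW_snd, hz₂]
  obtain ⟨i, x', hx'⟩ := hσcov z hzc (show z ∈ pullback.fst (g ≫ f) r ⁻¹' under f g s C from ⟨cc.1, cc.2, hz₁.symm⟩)
  have hx'c : pullback.snd fA r₀ (iR.inv x') = IsLocalRing.closedPoint R := by
    rw [← hcl, ← Scheme.Hom.comp_apply iR.inv, iR.inv_hom_id, ← hzc, ← hx', ← Scheme.Hom.comp_apply (σR i),
      ← Category.assoc, hσR i, Category.id_comp]
    rfl
  have hyx : pullback.snd fA u (κ (iR.inv x')) = O.ι ⟨y, hyO⟩ := by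
    rw [← Scheme.Hom.comp_apply, pullback.lift_snd, Scheme.Hom.comp_apply, hx'c]
    rfl
  obtain ⟨x'', hx'', -⟩ := Scheme.Pullback.exists_preimage_pullback (f := pullback.snd fA u) (g := O.ι)
    (κ (iR.inv x')) ⟨y, hyO⟩ hyx
  have := hW i (sqO.isoPullback.inv x'')
  rw [Scheme.Hom.comp_apply, ← Scheme.Hom.comp_apply sqO.isoPullback.inv, sqO.isoPullback_inv_fst, hx'', hτσ,
    ← Scheme.Hom.comp_apply iR.inv, iR.inv_hom_id] at this
  change pullback.fst (g ≫ f) r (σR i x') ∈ W at this
  rwa [hx', hz₁] at this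

end FEtSplit

end
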