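import Groth.Agent.FEtSplitLib.Basic
import Groth.Agent.FFDescLib.EtaleGraph

/-! # Étale schemes covered by sheets over an étale scheme over the base -/

set_option autoImplicit false
set_option linter.style.haveILetI false
set_option backward.isDefEq.respectTransparency false
set_option backward.isDefEq.respectTransparency.types false

universe u

open CategoryTheory CategoryTheory.Limits AlgebraicGeometry WeightLib

noncomputable section

namespace FEtSplit

variable {V X S : Scheme.{u}} (w : V ⟶ X) (f : X ⟶ S)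

/-- A jointly surjective family of sheets over an étale scheme over the base. -/
structure SecFam where
  U : Scheme.{u}
  u : U ⟶ S
  et : Etale u
  ι : Type u
  σ : ι → (pullback f u ⟶ V)
  hσ : ∀ i, σ i ≫ w = pullback.fst f u
  cover : ∀ v : V, ∃ i x, σ i x = v

variable {w f}

theorem SecFam.etale_σ (c : SecFam w f) [Etale w] (i : c.ι) : Etale (c.σ i) := by
  haveI := c.et
  haveI : Etale (c.σ i ≫ w) := by rw [c.hσ i]; infer_instance
  exact Etale.of_comp (c.σ i) w

/-- A geometric point lies on one of the sheets. -/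
theorem SecFam.exists_lift (c : SecFam w f) [Etale w] {K : Type u} [Field K] [IsAlgClosed K]
    (a : Spec (CommRingCat.of K) ⟶ V) :
    ∃ (i : c.ι) (a' : Spec (CommRingCat.of K) ⟶ pullback f c.u), a' ≫ c.σ i = a := by
  obtain ⟨i, x, hx⟩ := c.cover (a (pt K))
  haveI := c.etale_σ i
  haveI : LocallyQuasiFinite (c.σ i) := locallyQuasiFinite_of_etale _
  obtain ⟨⟨a', ha'⟩, -⟩ := exists_gpt (c.σ i) x a hx
  exact ⟨i, a', ha'⟩

/-- The point on a sheet over a point of the base, above a given point. -/
theorem SecFam.sameSheet_σ (c : SecFam w f) (hC : GeoConn f) {K : Type u} [Field K] [IsAlgClosed K]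
    (i : c.ι) (a b : Spec (CommRingCat.of K) ⟶ pullback f c.u)
    (h : a ≫ pullback.snd f c.u = b ≫ pullback.snd f c.u) : SameSheet w f (a ≫ c.σ i) (b ≫ c.σ i) := by
  let ν := a ≫ pullback.snd f c.u
  let ξ := ν ≫ c.u
  haveI := hC K ξ
  have e : ∀ d : Spec (CommRingCat.of K) ⟶ pullback f c.u, d ≫ pullback.snd f c.u = ν →
      (d ≫ c.σ i) ≫ w ≫ f = ξ := fun d hd => by
    rw [Category.assoc, reassoc_of% c.hσ i, pullback.condition, reassoc_of% hd]
  let φ : pullback f ξ ⟶ pullback f c.u :=
    pullback.lift (pullback.fst _ _) (pullback.snd _ _ ≫ ν) (by rw [pullback.condition, Category.assoc])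
  let s : pullback f ξ ⟶ pullback (w ≫ f) ξ := pullback.lift (φ ≫ c.σ i) (pullback.snd _ _) (by
    rw [Category.assoc, reassoc_of% c.hσ i, ← Category.assoc, pullback.lift_fst, pullback.condition])
  have hs : ∀ (d : Spec (CommRingCat.of K) ⟶ pullback f c.u) (hd : d ≫ pullback.snd f c.u = ν),
      pullback.lift (f := f) (g := ξ) (d ≫ pullback.fst f c.u) (𝟙 _) (by
        rw [Category.assoc, pullback.condition, reassoc_of% hd, Category.id_comp]) ≫ s =
      toFib w f ξ (d ≫ c.σ i) (e d hd) := fun d hd => by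
    apply pullback.hom_ext
    · simp only [s, Category.assoc, pullback.lift_fst]
      rw [← Category.assoc]
      congr 1
      apply pullback.hom_ext
      · simp [φ]
      · simp only [φ, Category.assoc, pullback.lift_snd]
        rw [← Category.assoc, pullback.lift_snd, Category.id_comp, hd]
    · simp [s]
  refine (sameSheet_iff w f ξ (e a rfl) (e b h.symm)).mpr ?_
  show _root_.ConnectedComponents.mk _ = _root_.ConnectedComponents.mk _
  rw [← hs a rfl, ← hs b h.symm, Scheme.Hom.comp_apply, Scheme.Hom.comp_apply,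
    _root_.ConnectedComponents.coe_eq_coe']
  exact (isPreconnected_range s.continuous).subset_connectedComponent ⟨_, rfl⟩ ⟨_, rfl⟩

theorem SecFam.exists_sameSheet (c : SecFam w f) [Etale w] (hC : GeoConn f) {K : Type u} [Field K] [IsAlgClosed K]
    (a : Spec (CommRingCat.of K) ⟶ V) (x : Spec (CommRingCat.of K) ⟶ X) (hx : x ≫ f = a ≫ w ≫ f) :
    ∃ b, b ≫ w = x ∧ SameSheet w f a b := by
  obtain ⟨i, a', ha'⟩ := c.exists_lift a
  subst ha'
  let b' : Spec (CommRingCat.of K) ⟶ pullback f c.u := pullback.lift x (a' ≫ pullback.snd _ _) (by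
    rw [hx, Category.assoc, Category.assoc, reassoc_of% c.hσ i, pullback.condition])
  exact ⟨b' ≫ c.σ i, by rw [Category.assoc, c.hσ i]; exact pullback.lift_fst _ _ _,
    c.sameSheet_σ hC i a' b' (pullback.lift_snd _ _ _).symm⟩

/-- Sheets are the connected components of the fibres. -/
theorem SecFam.eq_of_sameSheet (c : SecFam w f) [Etale w] [IsSeparated w] (hC : GeoConn f) {K : Type u} [Field K]
    [IsAlgClosed K] {a b : Spec (CommRingCat.of K) ⟶ V} (h : SameSheet w f a b) (hw : a ≫ w = b ≫ w) : a = b := by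
  obtain ⟨hb, hh⟩ := h
  obtain ⟨i, a', ha'⟩ := c.exists_lift a
  let ξ := a ≫ w ≫ f
  haveI := hC K ξ
  have hν : (a' ≫ pullback.snd f c.u) ≫ c.u = ξ := by
    show _ = a ≫ w ≫ f
    rw [← ha', Category.assoc, Category.assoc, reassoc_of% c.hσ i, pullback.condition]
  let φ : pullback f ξ ⟶ pullback f c.u :=
    pullback.lift (pullback.fst _ _) (pullback.snd _ _ ≫ a' ≫ pullback.snd f c.u)
      (by rw [pullback.condition, Category.assoc, hν])
  let s : pullback f ξ ⟶ pullback (w ≫ f) ξ := pullback.lift (φ ≫ c.σ i) (pullback.snd _ _) (by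
    rw [Category.assoc, reassoc_of% c.hσ i, ← Category.assoc, pullback.lift_fst, pullback.condition])
  haveI : IsSeparated (mW w f ξ) := MorphismProperty.of_isPullback (isPullback_mW w f ξ) ‹IsSeparated w›
  haveI : Etale (mW w f ξ) := MorphismProperty.of_isPullback (isPullback_mW w f ξ) ‹Etale w›
  have hsm : s ≫ mW w f ξ = 𝟙 _ := by
    apply pullback.hom_ext
    · simp only [s, Category.assoc, mW_fst, pullback.lift_fst_assoc, c.hσ i, Category.id_comp]
      exact pullback.lift_fst _ _ _
    · simp [s]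
  haveI : IsClosedImmersion (s ≫ mW w f ξ) := by rw [hsm]; infer_instance
  haveI : IsClosedImmersion s := IsClosedImmersion.of_comp s (mW w f ξ)
  haveI : IsOpenImmersion s := FFDescLib.isOpenImmersion_of_section (mW w f ξ) s hsm
  let a₁ := toFib w f ξ a rfl
  let b₁ := toFib w f ξ b hb
  have ha₁ : a₁ (pt K) ∈ Set.range s := by
    refine ⟨(pullback.lift (f := f) (g := ξ) (a ≫ w) (𝟙 _)
      (by rw [Category.assoc, Category.id_comp])) (pt K), ?_⟩
    rw [← Scheme.Hom.comp_apply]
    refine congrArg (fun h : Spec (CommRingCat.of K) ⟶ pullback (w ≫ f) ξ => h (pt K)) ?_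
    apply pullback.hom_ext
    · simp only [s, a₁, Category.assoc, pullback.lift_fst]
      rw [← Category.assoc]
      conv_rhs => rw [← ha']
      congr 1
      apply pullback.hom_ext
      · simp only [φ, Category.assoc, pullback.lift_fst]
        rw [← ha', Category.assoc, c.hσ i]
      · simp only [φ, Category.assoc, pullback.lift_snd, pullback.lift_snd_assoc, Category.id_comp]
    · simp [s, a₁]
  have hclopen : IsClopen (Set.range s) := ⟨s.isClosedEmbedding.isClosed_range, s.isOpenEmbedding.isOpen_range⟩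
  have hb₁ : b₁ (pt K) ∈ Set.range s :=
    hclopen.connectedComponent_subset ha₁ (_root_.ConnectedComponents.coe_eq_coe'.mp hh.symm)
  have key : ∀ d : Spec (CommRingCat.of K) ⟶ pullback (w ≫ f) ξ, d (pt K) ∈ Set.range s →
      d = d ≫ mW w f ξ ≫ s := fun d hd => by
    conv_lhs => rw [← IsOpenImmersion.lift_fac s d (range_le d hd)]
    conv_rhs => rw [← IsOpenImmersion.lift_fac s d (range_le d hd)]
    rw [Category.assoc, ← Category.assoc s, hsm, Category.id_comp]
  have h₁ : a₁ ≫ mW w f ξ = b₁ ≫ mW w f ξ := by apply pullback.hom_ext <;> simp [a₁, b₁, hw]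
  have : a₁ = b₁ := by rw [key a₁ ha₁, key b₁ hb₁, ← Category.assoc, h₁, Category.assoc]
  have h2 := congrArg (· ≫ pullback.fst (w ≫ f) ξ) this
  simpa [a₁, b₁] using h2

variable (w f)

/-- The pairs of points in the same sheet. -/
def rel₂ : Set ↥(pullback (w ≫ f) (w ≫ f)) :=
  {z | SameSheet w f (gpt z ≫ pullback.fst _ _) (gpt z ≫ pullback.snd _ _)}

variable {w f}

/-- The pairs over the same point of the étale scheme, mapped to the pairs. -/
def SecFam.pairMap (c : SecFam w f) (i : c.ι) :
    pullback (pullback.snd f c.u) (pullback.snd f c.u) ⟶ pullback (w ≫ f) (w ≫ f) :=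
  pullback.lift (pullback.fst _ _ ≫ c.σ i) (pullback.snd _ _ ≫ c.σ i) (by
    simp only [Category.assoc, reassoc_of% c.hσ i, pullback.condition (f := f) (g := c.u)]
    rw [pullback.condition_assoc])

theorem SecFam.etale_pairMap (c : SecFam w f) [Etale w] (i : c.ι) : Etale (c.pairMap i) := by
  haveI := c.et
  haveI := c.etale_σ i
  haveI : IsOpenImmersion (pullback.map (pullback.snd f c.u) (pullback.snd f c.u) (pullback.snd f c.u ≫ c.u)
      (pullback.snd f c.u ≫ c.u) (𝟙 _) (𝟙 _) c.u (by simp) (by simp)) :=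
    MorphismProperty.of_isPullback (pullback_map_diagonal_isPullback (pullback.snd f c.u) (pullback.snd f c.u) c.u)
      (inferInstance : IsOpenImmersion (pullback.diagonal c.u))
  let e := pullback.map (pullback.snd f c.u) (pullback.snd f c.u) (pullback.snd f c.u ≫ c.u)
    (pullback.snd f c.u ≫ c.u) (𝟙 _) (𝟙 _) c.u (by simp) (by simp)
  have hw : pullback.snd f c.u ≫ c.u = c.σ i ≫ w ≫ f := by rw [reassoc_of% c.hσ i, pullback.condition]
  let σσ := pullback.map (pullback.snd f c.u ≫ c.u) (pullback.snd f c.u ≫ c.u) (w ≫ f) (w ≫ f) (c.σ i) (c.σ i) (𝟙 _)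
    (by rw [Category.comp_id, hw]) (by rw [Category.comp_id, hw])
  haveI : Etale σσ := MorphismProperty.pullback_map (P := @Etale) (c.etale_σ i) (c.etale_σ i) hw hw
  have : c.pairMap i = e ≫ σσ := by
    apply pullback.hom_ext <;> simp [e, σσ, SecFam.pairMap]
  rw [this]
  infer_instance

theorem SecFam.mem_rel₂_iff (c : SecFam w f) [Etale w] [IsSeparated w] (hC : GeoConn f)
    {K : Type u} [Field K] [IsAlgClosed K] (g : Spec (CommRingCat.of K) ⟶ pullback (w ≫ f) (w ≫ f)) :
    SameSheet w f (g ≫ pullback.fst _ _) (g ≫ pullback.snd _ _) ↔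
      ∃ (i : c.ι) (x : ↥(pullback (pullback.snd f c.u) (pullback.snd f c.u))), c.pairMap i x = g (pt K) := by
  constructor
  · intro h
    obtain ⟨i, a', ha'⟩ := c.exists_lift (g ≫ pullback.fst _ _)
    let x := g ≫ pullback.snd _ _ ≫ w
    let b' : Spec (CommRingCat.of K) ⟶ pullback f c.u := pullback.lift x (a' ≫ pullback.snd _ _) (by
      have h1 := h.1
      rw [← ha', Category.assoc a', reassoc_of% c.hσ i, pullback.condition] at h1
      simpa [x] using h1)
    have hb : b' ≫ c.σ i = g ≫ pullback.snd _ _ := by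
      have hs := c.sameSheet_σ hC i a' b' (pullback.lift_snd _ _ _).symm
      rw [ha'] at hs
      exact c.eq_of_sameSheet hC (hs.symm.trans h)
        (by rw [Category.assoc, c.hσ i, Category.assoc]; exact pullback.lift_fst _ _ _)
    let l : Spec (CommRingCat.of K) ⟶ pullback (pullback.snd f c.u) (pullback.snd f c.u) :=
      pullback.lift a' b' (pullback.lift_snd _ _ _).symm
    refine ⟨i, l (pt K), ?_⟩
    rw [← Scheme.Hom.comp_apply]
    refine congrArg (fun h : Spec (CommRingCat.of K) ⟶ pullback (w ≫ f) (w ≫ f) => h (pt K)) ?_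
    apply pullback.hom_ext <;> simp [l, SecFam.pairMap, ha', hb]
  · rintro ⟨i, x, hx⟩
    haveI := c.etale_pairMap i
    haveI : LocallyQuasiFinite (c.pairMap i) := locallyQuasiFinite_of_etale _
    obtain ⟨⟨l, hl⟩, -⟩ := exists_gpt (c.pairMap i) x g hx
    subst hl
    have := c.sameSheet_σ hC i (l ≫ pullback.fst _ _) (l ≫ pullback.snd _ _)
      (by rw [Category.assoc, Category.assoc, pullback.condition])
    simpa [SecFam.pairMap] using this

theorem SecFam.mem_rel₂ (c : SecFam w f) [Etale w] [IsSeparated w] (hC : GeoConn f)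
    {K : Type u} [Field K] [IsAlgClosed K] (g : Spec (CommRingCat.of K) ⟶ pullback (w ≫ f) (w ≫ f)) :
    SameSheet w f (g ≫ pullback.fst _ _) (g ≫ pullback.snd _ _) ↔ g (pt K) ∈ rel₂ w f := by
  refine (c.mem_rel₂_iff hC g).trans ?_
  have := (c.mem_rel₂_iff hC (gpt (g (pt K)))).symm
  rw [show gpt (g (pt K)) (pt _) = g (pt K) from img_gpt _] at this
  exact this

theorem SecFam.isOpen_rel₂ (c : SecFam w f) [Etale w] [IsSeparated w] (hC : GeoConn f) : IsOpen (rel₂ w f) := by
  have : rel₂ w f = ⋃ i, Set.range (c.pairMap i) := by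
    ext z
    refine (c.mem_rel₂_iff hC (gpt z)).trans ?_
    rw [Set.mem_iUnion, show gpt z (pt _) = z from img_gpt z]
    rfl
  rw [this]
  exact isOpen_iUnion fun i => by
    haveI := c.etale_pairMap i
    exact (c.pairMap i).isOpenMap.isOpen_range

end FEtSplit

end
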