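import Groth.Agent.FEtSplitLib.Sections
import Groth.Agent.SubmEffLib.General
import Groth.Agent.FFDescLib.EtaleGraph

/-! # Descent of étale schemes covered by sheets -/

set_option autoImplicit false
set_option linter.style.haveILetI false
set_option backward.isDefEq.respectTransparency false
set_option backward.isDefEq.respectTransparency.types false

universe u

open CategoryTheory CategoryTheory.Limits AlgebraicGeometry WeightLib

noncomputable section

namespace FEtSplit

variable {V X S : Scheme.{u}} (w : V ⟶ X) (f : X ⟶ S) [IsSeparated w] [QuasiCompact w] [Etale w]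

omit [IsSeparated w] [QuasiCompact w] in
theorem etale_relMap₂ : Etale (pullback.lift (f := w ≫ f) (g := f) (pullback.fst (w ≫ f) (w ≫ f))
    (pullback.snd _ _ ≫ w) (by rw [Category.assoc]; exact pullback.condition)) := by
  let m := pullback.lift (f := w ≫ f) (g := f) (pullback.fst (w ≫ f) (w ≫ f))
    (pullback.snd _ _ ≫ w) (by rw [Category.assoc]; exact pullback.condition)
  have sq : IsPullback (pullback.snd (w ≫ f) (w ≫ f)) m w (pullback.snd (w ≫ f) f) := by
    refine IsPullback.of_bot ?_ (pullback.lift_snd _ _ _).symm (IsPullback.of_hasPullback (w ≫ f) f).flip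
    rw [pullback.lift_fst]
    exact (IsPullback.of_hasPullback (w ≫ f) (w ≫ f)).flip
  exact MorphismProperty.of_isPullback (P := @Etale) sq ‹Etale w›

variable {w f}

theorem exists_descent₂ [IsProper f] [Surjective f]
    (c : SecFam w f) (hC : GeoConn f) :
    ∃ (U : Scheme.{u}) (v : U ⟶ S), Etale v ∧ ∃ e : V ≅ pullback f v, e.hom ≫ pullback.fst f v = w := by
  let Z := pullback (w ≫ f) (w ≫ f)
  let R : Z.Opens := ⟨rel₂ w f, c.isOpen_rel₂ hC⟩
  let m : Z ⟶ pullback (w ≫ f) f := pullback.lift (pullback.fst _ _) (pullback.snd _ _ ≫ w)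
    (by rw [Category.assoc]; exact pullback.condition)
  haveI : Etale m := etale_relMap₂ w f
  let r : (R : Scheme.{u}) ⟶ pullback (w ≫ f) f := R.ι ≫ m
  haveI : Etale r := inferInstance
  have hR : ∀ {K : Type u} [Field K] [IsAlgClosed K] (g : Spec (CommRingCat.of K) ⟶ (R : Scheme.{u})),
      SameSheet w f ((g ≫ R.ι) ≫ pullback.fst _ _) ((g ≫ R.ι) ≫ pullback.snd _ _) := fun g =>
    (c.mem_rel₂ hC (g ≫ R.ι)).mpr (g (pt _)).2
  haveI : Mono r := by
    haveI : Surjective (pullback.diagonal r) := ⟨fun z => by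
      let g := gpt z
      have h1 := congrArg (· ≫ pullback.fst (w ≫ f) f) (pullback.condition (f := r) (g := r))
      have h2 := congrArg (· ≫ pullback.snd (w ≫ f) f) (pullback.condition (f := r) (g := r))
      simp only [r, m, Category.assoc, pullback.lift_fst, pullback.lift_snd] at h1 h2
      have e₁ : (g ≫ pullback.fst r r ≫ R.ι) ≫ pullback.snd (w ≫ f) (w ≫ f) =
          (g ≫ pullback.snd r r ≫ R.ι) ≫ pullback.snd (w ≫ f) (w ≫ f) := by
        refine c.eq_of_sameSheet hC ?_ ?_
        · have ha := hR (g ≫ pullback.fst r r)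
          have hb := hR (g ≫ pullback.snd r r)
          simp only [Category.assoc] at ha hb ⊢
          rw [h1] at ha
          exact ha.symm.trans hb
        · simp only [Category.assoc]
          exact congrArg (g ≫ ·) h2
      have e : g ≫ pullback.fst r r = g ≫ pullback.snd r r := by
        rw [← cancel_mono R.ι]
        apply pullback.hom_ext
        · simp only [Category.assoc]
          exact congrArg (g ≫ ·) h1
        · simpa only [Category.assoc] using e₁
      refine ⟨(g ≫ pullback.fst r r) (pt _), ?_⟩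
      rw [← Scheme.Hom.comp_apply, show (g ≫ pullback.fst r r) ≫ pullback.diagonal r = g from
        pullback.hom_ext (by simp) (by simp [e])]
      exact img_gpt z⟩
    haveI : IsIso (pullback.diagonal r) := (isIso_iff_isOpenImmersion_and_surjective _).2 ⟨inferInstance, inferInstance⟩
    exact pullback.isIso_diagonal_iff r |>.mp inferInstance
  haveI : IsOpenImmersion r := IsOpenImmersion.of_flat_of_mono r
  haveI : Surjective r := ⟨fun y => by
    let g := gpt y
    let a := g ≫ pullback.fst (w ≫ f) f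
    let x := g ≫ pullback.snd (w ≫ f) f
    obtain ⟨b, hbw, hb⟩ := c.exists_sameSheet hC a x (by simp [a, x, pullback.condition])
    let l : Spec _ ⟶ Z := pullback.lift a b hb.1.symm
    have hl : l (pt _) ∈ rel₂ w f := (c.mem_rel₂ hC l).mp (by simpa [l] using hb)
    refine ⟨⟨l (pt _), hl⟩, ?_⟩
    have : l ≫ m = g := pullback.hom_ext (by simp [l, m, a]) (by simp [l, m, x, hbw])
    show (R.ι ≫ m) _ = y
    rw [Scheme.Hom.comp_apply]
    show m (l (pt _)) = y
    rw [← Scheme.Hom.comp_apply, this]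
    exact img_gpt y⟩
  haveI : IsIso r := (isIso_iff_isOpenImmersion_and_surjective _).2 ⟨inferInstance, inferInstance⟩
  -- the gluing
  let ρ : pullback (w ≫ f) f ⟶ V := inv r ≫ R.ι ≫ pullback.snd _ _
  have hρ : ρ ≫ w = pullback.snd _ _ := by
    show (inv r ≫ R.ι ≫ pullback.snd _ _) ≫ w = _
    rw [Category.assoc, IsIso.inv_comp_eq]
    simp [r, m]
  let g₁ : ∀ {T : Scheme.{u}} (x₀ x₁ : T ⟶ X), x₀ ≫ f = x₁ ≫ f → Desc.Lifts (Over.mk w) x₀ →
      Desc.Lifts (Over.mk w) x₁ := fun {T} x₀ x₁ h v =>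
    ⟨pullback.lift (f := w ≫ f) (g := f) v.1 x₁ (by
      have e : v.1 ≫ w = x₀ := v.2
      rw [reassoc_of% e, h]) ≫ ρ, by
      show (_ ≫ ρ) ≫ w = x₁
      rw [Category.assoc, hρ]; exact pullback.lift_snd _ _ _⟩
  have char : ∀ {T : Scheme.{u}} (x₀ x₁ : T ⟶ X) (h : x₀ ≫ f = x₁ ≫ f) (v : Desc.Lifts (Over.mk w) x₀)
      (v' : Desc.Lifts (Over.mk w) x₁), (∀ t : T, SameSheet w f (gpt t ≫ v.1) (gpt t ≫ v'.1)) →
      g₁ x₀ x₁ h v = v' := by
    intro T x₀ x₁ h v v' hs
    have e : v.1 ≫ w = x₀ := v.2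
    have e' : v'.1 ≫ w = x₁ := v'.2
    let l : T ⟶ Z := pullback.lift v.1 v'.1 (by rw [reassoc_of% e, h, reassoc_of% e'])
    have hl : Set.range l ⊆ Set.range R.ι := by
      rw [Scheme.Opens.range_ι]
      rintro _ ⟨t, rfl⟩
      have := (c.mem_rel₂ hC (gpt t ≫ l)).mp (by simpa [l] using hs t)
      rwa [Scheme.Hom.comp_apply, show gpt t (pt _) = t from img_gpt t] at this
    let l' := IsOpenImmersion.lift R.ι l hl
    have hl' : l' ≫ R.ι = l := IsOpenImmersion.lift_fac _ _ _
    apply Subtype.ext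
    show pullback.lift v.1 x₁ _ ≫ ρ = v'.1
    have : l' ≫ r = pullback.lift v.1 x₁ (by rw [reassoc_of% e, h]) := by
      apply pullback.hom_ext <;> simp [r, m, reassoc_of% hl', l, e']
    rw [← this]
    simp [ρ, reassoc_of% hl', l]
  have sheet₁ : ∀ {T : Scheme.{u}} (x₀ x₁ : T ⟶ X) (h : x₀ ≫ f = x₁ ≫ f) (v : Desc.Lifts (Over.mk w) x₀) (t : T),
      SameSheet w f (gpt t ≫ v.1) (gpt t ≫ (g₁ x₀ x₁ h v).1) := by
    intro T x₀ x₁ h v t
    have e : v.1 ≫ w = x₀ := v.2
    let y := pullback.lift (f := w ≫ f) (g := f) v.1 x₁ (by rw [reassoc_of% e, h])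
    have h1 : (inv r ≫ R.ι) ≫ pullback.fst _ _ = pullback.fst (w ≫ f) f := by
      rw [Category.assoc, IsIso.inv_comp_eq]; simp [r, m]
    have := hR (gpt t ≫ y ≫ inv r)
    simp only [Category.assoc] at this h1
    rw [h1, show y ≫ pullback.fst (w ≫ f) f = v.1 from pullback.lift_fst _ _ _] at this
    exact this
  let D : Desc.SchDD f :=
    { obj := Over.mk w
      φ := fun T x₀ x₁ h =>
        { toFun := g₁ x₀ x₁ h
          invFun := g₁ x₁ x₀ h.symm
          left_inv := fun v => char _ _ h.symm _ _ fun t => by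
            have hs := sheet₁ x₀ x₁ h v t
            exact hs.symm
          right_inv := fun v => char _ _ h _ _ fun t => by
            have hs := sheet₁ x₁ x₀ h.symm v t
            exact hs.symm }
      φ_natural := fun T T' g x₀ x₁ h h' v v' hv => by
        refine congrArg Subtype.val (char _ _ h' v' ⟨g ≫ (g₁ x₀ x₁ h v).1, ?_⟩ fun t => ?_)
        · exact (Category.assoc _ _ _).trans (congrArg (g ≫ ·) (g₁ x₀ x₁ h v).2)
        · have hs := sheet₁ x₀ x₁ h v ((gpt t ≫ g) (pt _))
          rw [hv]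
          show SameSheet w f (gpt t ≫ g ≫ v.1) (gpt t ≫ g ≫ (g₁ x₀ x₁ h v).1)
          let l : T ⟶ Z := pullback.lift v.1 (g₁ x₀ x₁ h v).1 (by
            rw [← Category.assoc, ← Category.assoc]
            exact (congrArg (· ≫ f) v.2).trans (h.trans (congrArg (· ≫ f) (g₁ x₀ x₁ h v).2).symm))
          have hm := (c.mem_rel₂ hC (gpt ((gpt t ≫ g) (pt _)) ≫ l)).mp (by simpa [l] using hs)
          rw [Scheme.Hom.comp_apply, show gpt ((gpt t ≫ g) (pt _)) (pt _) = (gpt t ≫ g) (pt _) from img_gpt _,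
            ← Scheme.Hom.comp_apply] at hm
          have := (c.mem_rel₂ hC ((gpt t ≫ g) ≫ l)).mpr hm
          simpa [l] using this
      φ_self := fun T x v => char _ _ rfl _ _ fun t => sameSheet_refl w f _
      φ_comp := fun T x₀ x₁ x₂ h₀₁ h₁₂ v => by
        refine (char x₀ x₂ (h₀₁.trans h₁₂) v (g₁ x₁ x₂ h₁₂ (g₁ x₀ x₁ h₀₁ v)) fun t => ?_).symm
        exact (sheet₁ x₀ x₁ h₀₁ v t).trans (sheet₁ x₁ x₂ h₁₂ _ t) }
  obtain ⟨U, v, q, hv, hq⟩ := SubmEffLib.effQ_subtrusive f (SubmEffLib.univSSubtrusive_of_universallyClosed f) D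
    (show Etale w from inferInstance) (show IsSeparated w from inferInstance) (show QuasiCompact w from inferInstance)
  have sq : IsPullback q w v f := by simpa [D] using hq.isPullback
  exact ⟨U, v, hv, sq.flip.isoPullback, sq.flip.isoPullback_hom_fst⟩

end FEtSplit

end
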